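import Cfsg.Prelude.Def_Transfer
import Mathlib

/-!
# Cyclic Sylow subgroups and abelian subgroups of prime-to-`p` order

Owner: helper83. Coprime automorphisms of cyclic `p`-groups and small tools.
-/

set_option autoImplicit false

namespace Cfsg.Agent.Lib.CyclicSylowAbelian83

universe u

variable {G : Type u} [Group G] [Finite G] {p : ℕ} [hp : Fact p.Prime]

theorem prime_not_dvd_of_orderOf {x : G} {q : ℕ} (hq : q.Prime) (hqp : q ≠ p)
    (hx : orderOf x = q) : ¬ p ∣ orderOf x := fun h =>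
  hqp ((Nat.prime_dvd_prime_iff_eq hp.out hq).mp (hx ▸ h)).symm

theorem coprime_orderOf_pow {x : G} (hx : ¬ p ∣ orderOf x) (n : ℕ) :
    (p ^ n).Coprime (orderOf x) :=
  Nat.Coprime.pow_left _ (hp.out.coprime_iff_not_dvd.mpr hx)

/-- A power of `p`-power exponent generates the same element. -/
theorem mem_of_pow_mem {x : G} (hx : ¬ p ∣ orderOf x) {H : Subgroup G} {n : ℕ}
    (h : x ^ p ^ n ∈ H) : x ∈ H := by
  obtain ⟨m, hm⟩ := exists_pow_eq_self_of_coprime (coprime_orderOf_pow hx n)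
  exact hm ▸ H.pow_mem h m

theorem not_dvd_card_zpowers {x : G} (hx : ¬ p ∣ orderOf x) :
    ¬ p ∣ Nat.card (Subgroup.zpowers x) := by rwa [Nat.card_zpowers]

theorem not_dvd_orderOf_of_mem {H : Subgroup G} (hH : ¬ p ∣ Nat.card H) {x : G} (hx : x ∈ H) :
    ¬ p ∣ orderOf x := fun h => hH (h.trans (Subgroup.orderOf_dvd_natCard H hx))

omit [Finite G] hp in
theorem conj_iter {d g : G} {r : ℕ} (h : d * g * d⁻¹ = g ^ r) :
    ∀ i : ℕ, d ^ i * g * (d ^ i)⁻¹ = g ^ r ^ i := by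
  intro i
  induction i with
  | zero => simp
  | succ n ih =>
    calc d ^ (n + 1) * g * (d ^ (n + 1))⁻¹ = d ^ n * (d * g * d⁻¹) * (d ^ n)⁻¹ := by
          rw [pow_succ]; group
      _ = (d ^ n * g * (d ^ n)⁻¹) ^ r := by rw [h, conj_pow]
      _ = g ^ r ^ (n + 1) := by rw [ih, ← pow_mul, pow_succ]

/-- A coprime automorphism of a cyclic `p`-group that is the identity modulo `p` is trivial. -/
theorem commute_of_modEq_one {d g : G} (hd : ¬ p ∣ orderOf d) {n r : ℕ}
    (hg : orderOf g ∣ p ^ n) (h : d * g * d⁻¹ = g ^ r) (hr : (p : ℤ) ∣ (r : ℤ) - 1) :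
    d * g = g * d := by
  have hpow : g ^ r ^ p ^ n = g := by
    have h1 : ((p : ℤ) ^ (n + 1)) ∣ (r : ℤ) ^ p ^ n - 1 := by
      have := dvd_sub_pow_of_dvd_sub (p := p) hr n
      simpa using this
    have h2 : ((orderOf g : ℕ) : ℤ) ∣ (r : ℤ) ^ p ^ n - 1 := by
      refine dvd_trans ?_ h1
      exact_mod_cast hg.trans (pow_dvd_pow p (Nat.le_succ n))
    have h3 := orderOf_dvd_iff_zpow_eq_one.mp h2
    have h4 : g ^ ((r : ℤ) ^ p ^ n) = g := by
      have : (r : ℤ) ^ p ^ n = ((r : ℤ) ^ p ^ n - 1) + 1 := by ring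
      rw [this, zpow_add, h3, zpow_one, one_mul]
    rw [← zpow_natCast g (r ^ p ^ n)]
    simpa using h4
  have hc : d ^ p ^ n * g * (d ^ p ^ n)⁻¹ = g := by rw [conj_iter h, hpow]
  have : d ∈ Subgroup.centralizer ({g} : Set G) := by
    refine mem_of_pow_mem hd (n := n) (Subgroup.mem_centralizer_singleton_iff.mpr ?_)
    exact mul_inv_eq_iff_eq_mul.mp hc
  exact Subgroup.mem_centralizer_singleton_iff.mp this

variable {P : Subgroup G} (hP : IsPGroup p P) (hcyc : IsCyclic P)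

include hcyc in
theorem exists_generator : ∃ g ∈ P, Subgroup.zpowers g = P := by
  obtain ⟨⟨g, hg⟩, h⟩ := hcyc.exists_generator
  refine ⟨g, hg, le_antisymm (Subgroup.zpowers_le.mpr hg) fun x hx => ?_⟩
  obtain ⟨i, hi⟩ := Subgroup.mem_zpowers_iff.mp (h ⟨x, hx⟩)
  exact Subgroup.mem_zpowers_iff.mpr ⟨i, congrArg Subtype.val hi⟩

include hP hcyc in
/-- A coprime element fixing a nontrivial element of a cyclic `p`-group centralises it. -/
theorem mem_centralizer_of_fix {d : G} (hd : ¬ p ∣ orderOf d)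
    (hN : d ∈ Subgroup.normalizer (P : Set G)) {z : G} (hz : z ∈ P) (hz1 : z ≠ 1)
    (hdz : d * z = z * d) : d ∈ Subgroup.centralizer (P : Set G) := by
  obtain ⟨g, hg, hgen⟩ := exists_generator hcyc
  obtain ⟨n, hn⟩ := IsPGroup.iff_card.mp hP
  have hgn : orderOf g = p ^ n := by rw [← Nat.card_zpowers, hgen, hn]
  have hdg : d * g * d⁻¹ ∈ Subgroup.zpowers g := by
    rw [hgen]; exact (Subgroup.mem_normalizer_iff.mp hN g).mp hg
  obtain ⟨r, hr⟩ := (mem_powers_iff_mem_zpowers.mpr hdg : d * g * d⁻¹ ∈ Submonoid.powers g)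
  obtain ⟨i, hi⟩ := (mem_powers_iff_mem_zpowers.mpr (hgen.symm ▸ hz) : z ∈ Submonoid.powers g)
  have hr' : d * g * d⁻¹ = g ^ r := hr.symm
  have hi' : z = g ^ i := hi.symm
  have e1 : g ^ (r * i) = g ^ i := by
    rw [pow_mul, ← hr', conj_pow, ← hi', hdz, mul_inv_cancel_right]
  have hmod : (p : ℤ) ∣ (r : ℤ) - 1 := by
    have h2 : g ^ (((r : ℤ) - 1) * (i : ℤ)) = 1 := by
      rw [sub_mul, one_mul, zpow_sub, show ((r : ℤ) * (i : ℤ)) = ((r * i : ℕ) : ℤ) by push_cast; rfl,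
        zpow_natCast, zpow_natCast, e1, mul_inv_cancel]
    have h3 := orderOf_dvd_iff_zpow_eq_one.mpr h2
    by_contra hnd
    have hco : IsCoprime ((orderOf g : ℕ) : ℤ) ((r : ℤ) - 1) := by
      rw [hgn]; push_cast
      exact ((Nat.prime_iff_prime_int.mp hp.out).coprime_iff_not_dvd.mpr hnd).pow_left
    have h4 := hco.dvd_of_dvd_mul_left h3
    exact hz1 (hi'.trans (orderOf_dvd_iff_pow_eq_one.mp (Int.natCast_dvd_natCast.mp h4)))
  have hc := commute_of_modEq_one (n := n) hd (dvd_of_eq hgn) hr' hmod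
  rw [← hgen, Subgroup.zpowers_eq_closure, Subgroup.centralizer_closure]
  exact Subgroup.mem_centralizer_singleton_iff.mpr hc

include hP hcyc in
/-- The commutator of a coprime element and a generator generates. -/
theorem exists_comm_generator {d : G} (hd : ¬ p ∣ orderOf d)
    (hN : d ∈ Subgroup.normalizer (P : Set G)) (hC : d ∉ Subgroup.centralizer (P : Set G)) :
    ∃ g ∈ P, ∀ x ∈ P, ∃ i : ℕ, x = (d * g * d⁻¹ * g⁻¹) ^ i := by
  obtain ⟨g, hg, hgen⟩ := exists_generator hcyc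
  obtain ⟨n, hn⟩ := IsPGroup.iff_card.mp hP
  have hgn : orderOf g = p ^ n := by rw [← Nat.card_zpowers, hgen, hn]
  have hdg : d * g * d⁻¹ ∈ Subgroup.zpowers g := by
    rw [hgen]; exact (Subgroup.mem_normalizer_iff.mp hN g).mp hg
  obtain ⟨r, hr⟩ := (mem_powers_iff_mem_zpowers.mpr hdg : d * g * d⁻¹ ∈ Submonoid.powers g)
  have hr' : d * g * d⁻¹ = g ^ r := hr.symm
  have hnmod : ¬ (p : ℤ) ∣ (r : ℤ) - 1 := by
    intro hmod
    refine hC ?_
    rw [← hgen, Subgroup.zpowers_eq_closure, Subgroup.centralizer_closure]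
    exact Subgroup.mem_centralizer_singleton_iff.mpr
      (commute_of_modEq_one (n := n) hd (dvd_of_eq hgn) hr' hmod)
  set c := d * g * d⁻¹ * g⁻¹
  have hc : c = g ^ ((r : ℤ) - 1) := by
    rw [zpow_sub, zpow_natCast, zpow_one]
    show d * g * d⁻¹ * g⁻¹ = _
    rw [hr']
  refine ⟨g, hg, fun x hx => ?_⟩
  have hgc : g ∈ Subgroup.zpowers c := by
    obtain ⟨a, b, hab⟩ := ((Nat.prime_iff_prime_int.mp hp.out).coprime_iff_not_dvd.mpr hnmod).pow_left
      (m := n)
    refine Subgroup.mem_zpowers_iff.mpr ⟨b, ?_⟩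
    rw [hc, ← zpow_mul]
    have : g ^ ((p : ℤ) ^ n * a) = 1 := by
      rw [zpow_mul, show ((p : ℤ) ^ n) = ((p ^ n : ℕ) : ℤ) by push_cast; rfl, zpow_natCast, ← hgn,
        pow_orderOf_eq_one, one_zpow]
    calc g ^ (((r : ℤ) - 1) * b) = g ^ (1 - (p : ℤ) ^ n * a) := by
          congr 1; linear_combination hab
      _ = g := by rw [zpow_sub, this, zpow_one, inv_one, mul_one]
  have hxc : x ∈ Subgroup.zpowers c := by
    rw [← hgen] at hx
    exact (Subgroup.zpowers_le.mpr hgc) hx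
  obtain ⟨i, hi⟩ := (mem_powers_iff_mem_zpowers.mpr hxc : x ∈ Submonoid.powers c)
  exact ⟨i, hi.symm⟩

include hcyc in
theorem zpowers_eq_of_mem {z w : G} (hz : z ∈ P) (hw : w ∈ P) (h : orderOf z = orderOf w) :
    Subgroup.zpowers z = Subgroup.zpowers w := by
  classical
  haveI := hcyc
  have hmem : ∀ {a b : P}, orderOf a = orderOf b → a ∈ Subgroup.zpowers b := by
    intro a b hab
    haveI := Fintype.ofFinite P
    have hsub : (Finset.univ.filter fun x : P => x ∈ Subgroup.zpowers b) =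
        Finset.univ.filter fun x : P => x ^ orderOf b = 1 := by
      refine Finset.eq_of_subset_of_card_le (fun x hx => ?_) ?_
      · obtain ⟨i, rfl⟩ := Subgroup.mem_zpowers_iff.mp (Finset.mem_filter.mp hx).2
        refine Finset.mem_filter.mpr ⟨Finset.mem_univ _, ?_⟩
        rw [← zpow_natCast, ← zpow_mul, mul_comm, zpow_mul, zpow_natCast, pow_orderOf_eq_one,
          one_zpow]
      · refine (IsCyclic.card_pow_eq_one_le (orderOf_pos b)).trans ?_
        rw [← Fintype.card_subtype, ← Nat.card_eq_fintype_card]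
        exact (Nat.card_zpowers b).ge
    have : a ∈ Finset.univ.filter fun x : P => x ∈ Subgroup.zpowers b := by
      rw [hsub]
      exact Finset.mem_filter.mpr ⟨Finset.mem_univ _, hab ▸ pow_orderOf_eq_one a⟩
    exact (Finset.mem_filter.mp this).2
  have key : ∀ {z w : G}, z ∈ P → w ∈ P → orderOf z = orderOf w → z ∈ Subgroup.zpowers w := by
    intro z w hz hw h
    obtain ⟨i, hi⟩ := Subgroup.mem_zpowers_iff.mp (@hmem ⟨z, hz⟩ ⟨w, hw⟩ (by
      rw [Subgroup.orderOf_mk, Subgroup.orderOf_mk, h]))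
    exact Subgroup.mem_zpowers_iff.mpr ⟨i, congrArg Subtype.val hi⟩
  exact le_antisymm (Subgroup.zpowers_le.mpr (key hz hw h))
    (Subgroup.zpowers_le.mpr (key hw hz h.symm))

end Cfsg.Agent.Lib.CyclicSylowAbelian83
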