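import Cfsg.Agent.Lib.CyclicSylowAbelian83.Main

/-!
# The centraliser of `P` in a minimal counterexample

Owner: helper83.
-/

set_option autoImplicit false

namespace Cfsg.Agent.Lib.CyclicSylowAbelian83

universe u

variable {G : Type u} [Group G] [Finite G] {p : ℕ} [hp : Fact p.Prime] {P : Sylow p G} {d : G}

/-- An element of `p`-power order which normalises an abelian Sylow subgroup without centralising
it. -/
theorem Min.exists_mover (h : Min p P d) {q : ℕ} [hq : Fact q.Prime] (hqp : q ≠ p)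
    (hqG : q ∣ Nat.card G) (Q : Sylow q G) :
    ∃ y : G, (∃ k : ℕ, y ^ p ^ k = 1) ∧ y ∈ Subgroup.normalizer ((Q : Subgroup G) : Set G) ∧
      y ∉ Subgroup.centralizer ((Q : Subgroup G) : Set G) := by
  have hQp : ¬ p ∣ Nat.card (Q : Subgroup G) := by
    obtain ⟨j, hj⟩ := IsPGroup.iff_card.mp Q.2
    rw [hj]
    intro hd
    exact hqp ((Nat.prime_dvd_prime_iff_eq hp.out hq.out).mp (hp.out.dvd_of_dvd_pow hd)).symm
  -- the normaliser differs from the centraliser
  obtain ⟨y0, hy0, hy0C⟩ : ∃ y ∈ Subgroup.normalizer ((Q : Subgroup G) : Set G),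
      y ∉ Subgroup.centralizer ((Q : Subgroup G) : Set G) := by
    by_contra hall
    push Not at hall
    have hc := MonoidHom.ker_transferSylow_isComplement' Q hall
    set M := (MonoidHom.transferSylow Q hall).ker
    have hQ1 : 1 < Nat.card (Q : Subgroup G) := by
      rw [Q.card_eq_multiplicity]
      exact Nat.one_lt_pow (hq.out.factorization_pos_of_dvd Nat.card_pos.ne' hqG).ne' hq.out.one_lt
    obtain ⟨j, hj⟩ := IsPGroup.iff_card.mp Q.2
    have hidx : M.index = q ^ j := by rw [hc.symm.index_eq_card, hj]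
    have hMt : M ≠ ⊤ := fun e => by
      rw [e, Subgroup.index_top, ← hj] at hidx
      omega
    refine h.false_of_normal M hMt fun x hx => ?_
    obtain ⟨i, hi⟩ := P.2 ⟨x, hx⟩
    have hxq : ¬ q ∣ orderOf x := fun hd => by
      have := hd.trans (orderOf_dvd_of_pow_eq_one (show x ^ p ^ i = 1 from congrArg Subtype.val hi))
      exact hqp ((Nat.prime_dvd_prime_iff_eq hq.out hp.out).mp (hq.out.dvd_of_dvd_pow this))
    exact mem_of_index_pow (p := q) hidx hxq
  obtain ⟨k, hk⟩ := prime_part (p := p) y0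
  set e := y0 ^ p ^ k
  have heN : e ∈ Subgroup.normalizer ((Q : Subgroup G) : Set G) := Subgroup.pow_mem _ hy0 _
  have heC : e ∈ Subgroup.centralizer ((Q : Subgroup G) : Set G) := by
    set E := Subgroup.zpowers e
    have hEN : E ≤ Subgroup.normalizer ((Q : Subgroup G) : Set G) := Subgroup.zpowers_le.mpr heN
    have hcard : ¬ p ∣ Nat.card (E ⊔ (Q : Subgroup G) : Subgroup G) := by
      intro hd
      have h2 : Nat.card (E ⊔ (Q : Subgroup G) : Subgroup G) ∣ Nat.card E * Nat.card (Q : Subgroup G) := by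
        set Q' := (Q : Subgroup G).subgroupOf (E ⊔ (Q : Subgroup G))
        haveI : Q'.Normal := Subgroup.normal_subgroupOf_of_le_normalizer
          (sup_le hEN Subgroup.le_normalizer)
        rw [← Q'.index_mul_card, Nat.card_congr (Subgroup.subgroupOfEquivOfLe le_sup_right).toEquiv]
        refine mul_dvd_mul_right ?_ _
        have : (Q : Subgroup G).relIndex (E ⊔ (Q : Subgroup G)) = (Q : Subgroup G).relIndex E := by
          set N := Subgroup.normalizer ((Q : Subgroup G) : Set G)
          haveI : ((Q : Subgroup G).subgroupOf N).Normal := Subgroup.normal_in_normalizer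
          rw [← Subgroup.relIndex_subgroupOf (K := E ⊔ (Q : Subgroup G)) (L := N)
              (sup_le hEN Subgroup.le_normalizer), ← Subgroup.relIndex_subgroupOf hEN,
            Subgroup.subgroupOf_sup hEN Subgroup.le_normalizer, Subgroup.relIndex_sup_right]
        show (Q : Subgroup G).relIndex (E ⊔ (Q : Subgroup G)) ∣ _
        rw [this]
        exact Subgroup.index_dvd_card _
      rcases hp.out.dvd_mul.mp (hd.trans h2) with h1 | h1
      · exact not_dvd_card_zpowers hk h1
      · exact hQp h1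
    rw [Subgroup.mem_centralizer_iff]
    intro t ht
    exact comm_of_abelian (h.hab _ hcard) (Subgroup.mem_sup_right ht)
      (Subgroup.mem_sup_left (Subgroup.mem_zpowers e))
  set m := orderOf e
  obtain ⟨w, hw⟩ := exists_pow_eq_self_of_coprime (x := e) (coprime_orderOf_pow hk k)
  obtain ⟨a, ha⟩ : ∃ a : ℕ, p ^ k * a ≡ 1 [MOD m] :=
    ⟨w, pow_eq_pow_iff_modEq.mp (by rw [pow_mul, hw, pow_one])⟩
  refine ⟨y0 * (e ^ a)⁻¹, ⟨k, ?_⟩, Subgroup.mul_mem _ hy0 (Subgroup.inv_mem _ (Subgroup.pow_mem _ heN a)),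
    fun hc => hy0C ?_⟩
  · have hcom : Commute y0 (e ^ a)⁻¹ := (((Commute.refl y0).pow_right _).pow_right _).inv_right
    rw [hcom.mul_pow, inv_pow, ← pow_mul, mul_comm a, (pow_eq_pow_iff_modEq).mpr ha, pow_one,
      mul_inv_cancel]
  · have := Subgroup.mul_mem _ hc (Subgroup.pow_mem _ heC a)
    rwa [inv_mul_cancel_right] at this

/-- A nontrivial element of prime-to-`p` order centralising `P` has order two, and `p = 3`. -/
theorem Min.prime_central (h : Min p P d) {q : ℕ} [hq : Fact q.Prime] {x : G}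
    (hx : x ∈ Subgroup.centralizer ((P : Subgroup G) : Set G)) (hxq : orderOf x = q) (hqp : q ≠ p) :
    q = 2 ∧ p = 3 ∧ ∀ Q : Sylow q G, x ∈ (Q : Subgroup G) →
      ∃ y : G, (∃ k : ℕ, y ^ p ^ k = 1) ∧ y ∈ Subgroup.normalizer ((Q : Subgroup G) : Set G) ∧
        (Q : Subgroup G) ≤ Subgroup.normalizer ((P : Subgroup G) : Set G) ∧
        ∀ t ∈ (Q : Subgroup G), t ≠ 1 → t ∈ Subgroup.centralizer ((P : Subgroup G) : Set G) →
          y * t * y⁻¹ ∉ Subgroup.centralizer ((P : Subgroup G) : Set G) := by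
  classical
  haveI := h.cyc
  have hqG : q ∣ Nat.card G := hxq ▸ orderOf_dvd_natCard x
  have key : ∀ Q : Sylow q G, x ∈ (Q : Subgroup G) →
      ∃ y : G, (∃ k : ℕ, y ^ p ^ k = 1) ∧ y ∈ Subgroup.normalizer ((Q : Subgroup G) : Set G) ∧
        (Q : Subgroup G) ≤ Subgroup.normalizer ((P : Subgroup G) : Set G) ∧
        ∀ t ∈ (Q : Subgroup G), t ≠ 1 → t ∈ Subgroup.centralizer ((P : Subgroup G) : Set G) →
          y * t * y⁻¹ ∉ Subgroup.centralizer ((P : Subgroup G) : Set G) := by
    intro Q hxQ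
    obtain ⟨y, ⟨k, hk⟩, hyN, hyC⟩ := h.exists_mover hqp hqG Q
    obtain ⟨j, hj⟩ := IsPGroup.iff_card.mp Q.2
    have hQp : ¬ p ∣ Nat.card (Q : Subgroup G) := by
      rw [hj]
      intro hd
      exact hqp ((Nat.prime_dvd_prime_iff_eq hp.out hq.out).mp (hp.out.dvd_of_dvd_pow hd)).symm
    have hQab := h.hab _ hQp
    have hQN : (Q : Subgroup G) ≤ Subgroup.normalizer ((P : Subgroup G) : Set G) := by
      rw [← h.centralizer_eq hx (fun e => by simp [e] at hxq; exact hq.out.ne_one hxq.symm)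
        (prime_not_dvd_of_orderOf hq.out hqp hxq)]
      exact fun t ht => Subgroup.mem_centralizer_singleton_iff.mpr (comm_of_abelian hQab ht hxQ)
    refine ⟨y, ⟨k, hk⟩, hyN, hQN, fun t ht ht1 htC hyt => hyC ?_⟩
    have htp := not_dvd_orderOf_of_mem hQp ht
    have hyt1 : y * t * y⁻¹ ≠ 1 := by simpa using ht1
    have e1 := h.centralizer_eq htC ht1 htp
    have e2 := h.centralizer_eq hyt hyt1
      (not_dvd_orderOf_of_mem hQp ((Subgroup.mem_normalizer_iff.mp hyN t).mp ht))
    have hmaps : ∀ n ∈ Subgroup.normalizer ((P : Subgroup G) : Set G),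
        y * n * y⁻¹ ∈ Subgroup.normalizer ((P : Subgroup G) : Set G) := by
      intro n hn
      rw [← e1, Subgroup.mem_centralizer_singleton_iff] at hn
      rw [← e2, Subgroup.mem_centralizer_singleton_iff]
      calc y * n * y⁻¹ * (y * t * y⁻¹) = y * (n * t) * y⁻¹ := by group
        _ = y * t * y⁻¹ * (y * n * y⁻¹) := by rw [hn]; group
    have hyP : y ∈ Subgroup.normalizer ((P : Subgroup G) : Set G) := by
      refine Subgroup.mem_normalizer_fintype fun z (hz : z ∈ (P : Subgroup G)) => ?_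
      have hmem := hmaps z (Subgroup.le_normalizer hz)
      haveI : ((P : Subgroup G).subgroupOf (Subgroup.normalizer ((P : Subgroup G) : Set G))).Normal :=
        Subgroup.normal_in_normalizer
      obtain ⟨i, hi⟩ := P.2 ⟨z, hz⟩
      obtain ⟨n, hn⟩ : ∃ n, ((P : Subgroup G).subgroupOf
          (Subgroup.normalizer ((P : Subgroup G) : Set G))).index = n := ⟨_, rfl⟩
      have hnd : ¬ p ∣ n := hn ▸ (P.subtype Subgroup.le_normalizer).not_dvd_index
      have hpow : (y * z * y⁻¹) ^ n ∈ (P : Subgroup G) :=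
        hn ▸ Subgroup.pow_index_mem ((P : Subgroup G).subgroupOf
          (Subgroup.normalizer ((P : Subgroup G) : Set G))) ⟨_, hmem⟩
      obtain ⟨m, hm⟩ := exists_pow_eq_self_of_coprime (x := y * z * y⁻¹) (n := n) (by
        refine Nat.Coprime.coprime_dvd_right (orderOf_dvd_of_pow_eq_one (n := p ^ i) ?_)
          (Nat.Coprime.pow_right _ (hp.out.coprime_iff_not_dvd.mpr hnd).symm)
        rw [conj_pow, show z ^ p ^ i = 1 from congrArg Subtype.val hi, mul_one, mul_inv_cancel])
      exact hm ▸ Subgroup.pow_mem _ hpow m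
    have hyP' : y ∈ (P : Subgroup G) := by
      haveI : ((P : Subgroup G).subgroupOf (Subgroup.normalizer ((P : Subgroup G) : Set G))).Normal :=
        Subgroup.normal_in_normalizer
      set n := ((P : Subgroup G).subgroupOf (Subgroup.normalizer ((P : Subgroup G) : Set G))).index
      have hnd : ¬ p ∣ n := (P.subtype Subgroup.le_normalizer).not_dvd_index
      have hpow : y ^ n ∈ (P : Subgroup G) :=
        Subgroup.pow_index_mem ((P : Subgroup G).subgroupOf
          (Subgroup.normalizer ((P : Subgroup G) : Set G))) ⟨_, hyP⟩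
      obtain ⟨m, hm⟩ := exists_pow_eq_self_of_coprime (x := y) (n := n)
        (Nat.Coprime.coprime_dvd_right (orderOf_dvd_of_pow_eq_one hk)
          (Nat.Coprime.pow_right _ (hp.out.coprime_iff_not_dvd.mpr hnd).symm))
      exact hm ▸ Subgroup.pow_mem _ hpow m
    rw [Subgroup.mem_centralizer_iff]
    intro s hs
    set c := y * s * y⁻¹ * s⁻¹
    have hcQ : c ∈ (Q : Subgroup G) :=
      Subgroup.mul_mem _ ((Subgroup.mem_normalizer_iff.mp hyN s).mp hs) (Subgroup.inv_mem _ hs)
    have hcP : c ∈ (P : Subgroup G) := by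
      rw [show c = y * (s * y⁻¹ * s⁻¹) by simp [c, mul_assoc]]
      exact Subgroup.mul_mem _ hyP' ((Subgroup.mem_normalizer_iff.mp (hQN hs) y⁻¹).mp (inv_mem hyP'))
    obtain ⟨i, hi⟩ := P.2 ⟨c, hcP⟩
    have := Subgroup.mem_bot.mp (mem_of_pow_mem (not_dvd_orderOf_of_mem hQp hcQ) (H := (⊥ : Subgroup G))
      (n := i) (Subgroup.mem_bot.mpr (congrArg Subtype.val hi)))
    exact (mul_inv_eq_iff_eq_mul.mp (mul_inv_eq_one.mp this)).symm
  obtain ⟨Q, hQ⟩ : ∃ Q : Sylow q G, Subgroup.zpowers x ≤ (Q : Subgroup G) :=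
    (IsPGroup.of_card (n := 1) (by rw [Nat.card_zpowers, hxq, pow_one])).exists_le_sylow
  have hxQ : x ∈ (Q : Subgroup G) := hQ (Subgroup.mem_zpowers x)
  obtain ⟨y, ⟨k, hk⟩, hyN, hQN, hmove⟩ := key Q hxQ
  obtain ⟨g, hg, hgen⟩ := exists_generator h.cyc
  obtain ⟨n, hn⟩ := IsPGroup.iff_card.mp P.2
  have hgn : orderOf g = p ^ n := by rw [← Nat.card_zpowers, hgen, hn]
  obtain ⟨jQ, hjQ⟩ := IsPGroup.iff_card.mp Q.2
  have hQp : ¬ p ∣ Nat.card (Q : Subgroup G) := by
    rw [hjQ]
    intro hd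
    exact hqp ((Nat.prime_dvd_prime_iff_eq hp.out hq.out).mp (hp.out.dvd_of_dvd_pow hd)).symm
  have hQab := h.hab _ hQp
  -- the elements of order `q` of `Q`
  let S : Subgroup G :=
    { carrier := {t | t ∈ (Q : Subgroup G) ∧ t ^ q = 1}
      one_mem' := ⟨one_mem _, one_pow q⟩
      mul_mem' := fun {a b} ha hb => ⟨mul_mem ha.1 hb.1, by
        rw [(show Commute a b from comm_of_abelian hQab ha.1 hb.1).mul_pow, ha.2, hb.2, one_mul]⟩
      inv_mem' := fun {a} ha => ⟨inv_mem ha.1, by rw [inv_pow, ha.2, inv_one]⟩ }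
  have hex : ∀ s : S, ∃ r : ℕ, (s : G) * g * (s : G)⁻¹ = g ^ r := by
    intro s
    have : (s : G) * g * (s : G)⁻¹ ∈ Subgroup.zpowers g := by
      rw [hgen]; exact (Subgroup.mem_normalizer_iff.mp (hQN s.2.1) g).mp hg
    obtain ⟨r, hr⟩ := (mem_powers_iff_mem_zpowers.mpr this : (s : G) * g * (s : G)⁻¹ ∈ Submonoid.powers g)
    exact ⟨r, hr.symm⟩
  choose r hr using hex
  have hg1 : g ≠ 1 := by
    intro e
    apply h.dC
    rw [← hgen, e, Subgroup.zpowers_one_eq_bot, Subgroup.mem_centralizer_iff]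
    intro z hz
    rw [Subgroup.mem_bot.mp hz]; simp
  have hn0 : p ∣ p ^ n := dvd_pow_self p (by rintro rfl; rw [pow_zero, orderOf_eq_one_iff] at hgn; exact hg1 hgn)
  have hcast : ∀ a b : ℕ, g ^ a = g ^ b → (a : ZMod p) = (b : ZMod p) := fun a b e => by
    rw [ZMod.natCast_eq_natCast_iff]
    exact (hgn ▸ pow_eq_pow_iff_modEq.mp e).of_dvd hn0
  let ψ : S →* ZMod p :=
    { toFun := fun s => (r s : ZMod p)
      map_one' := by
        rw [← Nat.cast_one]
        refine hcast _ _ ?_
        rw [← hr, pow_one]; simp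
      map_mul' := fun a b => by
        rw [← Nat.cast_mul]
        refine hcast _ _ ?_
        rw [← hr, pow_mul, ← hr a, conj_pow, ← hr b]
        simp [mul_assoc] }
  set ψu := ψ.toHomUnits
  set S0 := ψu.ker
  have hker : ∀ s : S, s ∈ S0 → (s : G) ∈ Subgroup.centralizer ((P : Subgroup G) : Set G) := by
    intro s hs
    have hs' : ψ s = 1 := congrArg Units.val hs
    have hmod : (p : ℤ) ∣ (r s : ℤ) - 1 := by
      rw [← ZMod.intCast_zmod_eq_zero_iff_dvd]
      push_cast
      rw [show (r s : ZMod p) = 1 from hs', sub_self]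
    rw [← hgen, Subgroup.zpowers_eq_closure, Subgroup.centralizer_closure]
    exact Subgroup.mem_centralizer_singleton_iff.mpr (commute_of_modEq_one (n := n)
      (not_dvd_orderOf_of_mem hQp s.2.1) (dvd_of_eq hgn) (hr s) hmod)
  have himg : Nat.card ψu.range ≤ q := by
    rw [Nat.card_eq_fintype_card, Fintype.card_subtype]
    refine (Finset.card_le_card (t := Finset.univ.filter fun v : (ZMod p)ˣ => v ^ q = 1) ?_).trans
      (IsCyclic.card_pow_eq_one_le hq.out.pos)
    intro v hv
    obtain ⟨s, rfl⟩ := (Finset.mem_filter.mp hv).2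
    refine Finset.mem_filter.mpr ⟨Finset.mem_univ _, ?_⟩
    rw [← map_pow, show s ^ q = 1 from Subtype.ext s.2.2, map_one]
  have hyS : ∀ (z : G), z ∈ S → y * z * y⁻¹ ∈ S := fun z hz =>
    ⟨(Subgroup.mem_normalizer_iff.mp hyN z).mp hz.1, by rw [conj_pow, hz.2, mul_one, mul_inv_cancel]⟩
  -- iterates of the mover
  have hiter : ∀ i : ℕ, 0 < i → i < p → ∀ z : S, z ∈ S0 → z ≠ 1 →
      ∀ w : S, w ∈ S0 → y ^ i * (z : G) * (y ^ i)⁻¹ ≠ (w : G) := by
    intro i hi hip z hz hz1 w hw e
    have hcop : (p ^ k).Coprime i := (Nat.Coprime.pow_left k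
      ((hp.out.coprime_iff_not_dvd).mpr (fun hd => by have := Nat.le_of_dvd hi hd; omega)))
    obtain ⟨m, hm⟩ := exists_pow_eq_self_of_coprime (x := y) (n := i)
      (Nat.Coprime.coprime_dvd_right (orderOf_dvd_of_pow_eq_one hk) hcop.symm)
    -- `y ^ i` maps the centraliser of `z` to itself
    have hz1' : (z : G) ≠ 1 := fun e => hz1 (Subtype.ext e)
    have hw1 : (w : G) ≠ 1 := fun e' => hz1' (by rw [e', mul_inv_eq_one, mul_eq_left] at e; exact e)
    have e1 := h.centralizer_eq (hker z hz) hz1' (not_dvd_orderOf_of_mem hQp z.2.1)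
    have e2 := h.centralizer_eq (hker w hw) hw1 (not_dvd_orderOf_of_mem hQp w.2.1)
    have hN : ∀ a ∈ Subgroup.normalizer ((P : Subgroup G) : Set G),
        y ^ i * a * (y ^ i)⁻¹ ∈ Subgroup.normalizer ((P : Subgroup G) : Set G) := by
      intro a ha
      rw [← e1, Subgroup.mem_centralizer_singleton_iff] at ha
      rw [← e2, Subgroup.mem_centralizer_singleton_iff, ← e]
      calc y ^ i * a * (y ^ i)⁻¹ * (y ^ i * z * (y ^ i)⁻¹) = y ^ i * (a * z) * (y ^ i)⁻¹ := by group
        _ = _ := by rw [ha]; group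
    have hyiN : y ^ i ∈ Subgroup.normalizer (Subgroup.normalizer ((P : Subgroup G) : Set G) : Set G) :=
      Subgroup.mem_normalizer_fintype fun a ha => hN a ha
    have hyN' : y ∈ Subgroup.normalizer (Subgroup.normalizer ((P : Subgroup G) : Set G) : Set G) :=
      hm ▸ Subgroup.pow_mem _ hyiN m
    have hzN : (z : G) ∈ Subgroup.normalizer ((P : Subgroup G) : Set G) := hQN z.2.1
    refine hmove z z.2.1 hz1' (hker z hz) ?_
    -- the conjugate commutes with the whole normaliser
    rw [Subgroup.mem_centralizer_iff]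
    intro a ha
    have ha' : y⁻¹ * a * y ∈ Subgroup.normalizer ((P : Subgroup G) : Set G) := by
      refine ((Subgroup.mem_normalizer_iff.mp hyN') _).mpr ?_
      rw [show y * (y⁻¹ * a * y) * y⁻¹ = a by group]
      exact Subgroup.le_normalizer ha
    rw [← e1, Subgroup.mem_centralizer_singleton_iff] at ha'
    calc a * (y * z * y⁻¹) = y * (y⁻¹ * a * y * z) * y⁻¹ := by group
      _ = y * z * y⁻¹ * a := by rw [ha']; group
  have hxS : x ∈ S := ⟨hxQ, hxq ▸ pow_orderOf_eq_one x⟩
  have hx0 : (⟨x, hxS⟩ : S) ∈ S0 := by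
    refine Units.ext ?_
    show (r ⟨x, hxS⟩ : ZMod p) = 1
    rw [← Nat.cast_one]
    refine hcast _ _ ?_
    rw [← hr, pow_one]
    show x * g * x⁻¹ = g
    rw [← Subgroup.mem_centralizer_iff.mp hx g hg, mul_inv_cancel_right]
  have hx1' : (⟨x, hxS⟩ : S) ≠ 1 := fun e => by
    rw [show x = 1 from congrArg Subtype.val e, orderOf_one] at hxq
    exact hq.out.ne_one hxq.symm
  have hS0q : Nat.card S0 = q := by
    have hSS : Nat.card S0 * Nat.card S0 ≤ Nat.card S := by
      rw [← Nat.card_prod]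
      refine Nat.card_le_card_of_injective
        (fun ab : S0 × S0 => (ab.1 : S) * ⟨y * ((ab.2 : S) : G) * y⁻¹, hyS _ (ab.2 : S).2⟩) ?_
      rintro ⟨a, b⟩ ⟨a', b'⟩ e
      have e' : ((a : S) : G) * (y * ((b : S) : G) * y⁻¹) = ((a' : S) : G) * (y * ((b' : S) : G) * y⁻¹) :=
        congrArg Subtype.val e
      have e2 : y * (((b : S) : G) * ((b' : S) : G)⁻¹) * y⁻¹ = ((a : S) : G)⁻¹ * ((a' : S) : G) := by
        calc y * (((b : S) : G) * ((b' : S) : G)⁻¹) * y⁻¹
            = ((a : S) : G)⁻¹ * (((a : S) : G) * (y * ((b : S) : G) * y⁻¹)) *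
                (y * ((b' : S) : G) * y⁻¹)⁻¹ := by group
          _ = _ := by rw [e']; group
      by_cases hb : b = b'
      · subst hb
        exact Prod.ext (Subtype.ext (Subtype.ext (mul_right_cancel e'))) rfl
      · refine absurd ?_ (hiter 1 one_pos hp.out.one_lt ((b : S) * (b' : S)⁻¹)
          (mul_mem b.2 (inv_mem b'.2)) (fun e => hb (Subtype.ext (mul_inv_eq_one.mp e)))
          ((a : S)⁻¹ * (a' : S)) (mul_mem (inv_mem a.2) a'.2))
        rw [pow_one]
        exact e2
    have hdvd : q ∣ Nat.card S0 := by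
      have hd := Subgroup.orderOf_dvd_natCard S0 hx0
      rwa [Subgroup.orderOf_mk, hxq] at hd
    have hmul : Nat.card S = Nat.card S0 * Nat.card ψu.range := by
      rw [← Subgroup.card_mul_index S0, Subgroup.index_ker]
    refine le_antisymm ?_ (Nat.le_of_dvd Nat.card_pos hdvd)
    rw [hmul] at hSS
    exact (Nat.le_of_mul_le_mul_left hSS Nat.card_pos).trans himg
  -- the action on `P` is nontrivial
  have hq_dvd : q ∣ p - 1 := by
    set s : S := ⟨y * x * y⁻¹, hyS x hxS⟩
    have hs : s ∉ S0 := fun hs => hmove x hxQ (fun e => hx1' (Subtype.ext e)) hx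
      (hker s hs)
    have h1 : ψu s ≠ 1 := hs
    have h2 : orderOf (ψu s) = q := by
      refine orderOf_eq_prime ?_ h1
      rw [← map_pow, show s ^ q = 1 from Subtype.ext s.2.2, map_one]
    have := orderOf_dvd_natCard (ψu s)
    rwa [h2, Nat.card_eq_fintype_card, ZMod.card_units] at this
  have hple : p ≤ q + 1 := by
    have hcardS : Nat.card S ≤ q * q := by
      rw [← Subgroup.card_mul_index S0, Subgroup.index_ker, hS0q]
      exact Nat.mul_le_mul_left _ himg
    have hinj : Function.Injective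
        (fun iz : Fin p × {z : S0 // z ≠ 1} => (⟨y ^ (iz.1 : ℕ) * (((iz.2 : S0) : S) : G) * (y ^ (iz.1 : ℕ))⁻¹,
          by
            induction (iz.1 : ℕ) with
            | zero => simp
            | succ m ih =>
              have := hyS _ ih
              rw [pow_succ']
              simpa [mul_assoc] using this⟩ : S)) := by
      have key : ∀ (a b : Fin p) (z w : {z : S0 // z ≠ 1}), (a : ℕ) < b →
          y ^ (a : ℕ) * (((z : S0) : S) : G) * (y ^ (a : ℕ))⁻¹ ≠
            y ^ (b : ℕ) * (((w : S0) : S) : G) * (y ^ (b : ℕ))⁻¹ := by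
        intro a b z w hab e
        obtain ⟨i, hi⟩ := Nat.exists_eq_add_of_lt hab
        refine hiter (i + 1) (Nat.succ_pos i) (by have := b.2; omega) ((w : S0) : S) w.1.2
          (fun e' => w.2 (Subtype.ext e')) ((z : S0) : S) z.1.2 ?_
        rw [show (b : ℕ) = (a : ℕ) + (i + 1) by omega, pow_add] at e
        have := congrArg (fun v => (y ^ (a : ℕ))⁻¹ * v * y ^ (a : ℕ)) e
        simp only [mul_assoc, mul_inv_rev, inv_mul_cancel_left, inv_mul_cancel, mul_one] at this
        rw [mul_assoc]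
        exact this.symm
      rintro ⟨a, z⟩ ⟨b, w⟩ e
      have e' := congrArg Subtype.val e
      rcases Nat.lt_trichotomy (a : ℕ) b with hab | hab | hab
      · exact absurd e' (key a b z w hab)
      · obtain rfl : a = b := Fin.ext hab
        have := mul_left_cancel (mul_right_cancel e')
        exact Prod.ext rfl (Subtype.ext (Subtype.ext (Subtype.ext this)))
      · exact absurd e'.symm (key b a w z hab)
    have hne : ∀ iz : Fin p × {z : S0 // z ≠ 1},
        y ^ (iz.1 : ℕ) * (((iz.2 : S0) : S) : G) * (y ^ (iz.1 : ℕ))⁻¹ ≠ 1 := fun iz e => by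
      rw [mul_inv_eq_one, mul_eq_left] at e
      exact iz.2.2 (Subtype.ext (Subtype.ext e))
    have hcard := Nat.card_le_card_of_injective
      (fun iz => (⟨_, fun e => hne iz (congrArg Subtype.val e)⟩ : {s : S // s ≠ 1}))
      (fun a b e => hinj (congrArg Subtype.val e))
    haveI := Fintype.ofFinite S
    haveI := Fintype.ofFinite S0
    rw [Nat.card_prod, Nat.card_fin, Nat.card_eq_fintype_card, Fintype.card_subtype_compl,
      Fintype.card_subtype_eq, ← Nat.card_eq_fintype_card, hS0q,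
      Nat.card_eq_fintype_card (α := {s : S // s ≠ 1}), Fintype.card_subtype_compl,
      Fintype.card_subtype_eq, ← Nat.card_eq_fintype_card] at hcard
    have h2 := hq.out.two_le
    obtain ⟨q', rfl⟩ : ∃ q', q = q' + 1 := ⟨q - 1, by omega⟩
    have h3 : p * q' ≤ (q' + 1 + 1) * q' := by
      have : (q' + 1) * (q' + 1) - 1 = (q' + 1 + 1) * q' := by
        rw [show (q' + 1) * (q' + 1) = (q' + 1 + 1) * q' + 1 by ring]; rfl
      simp only [Nat.add_sub_cancel] at hcard
      omega
    exact Nat.le_of_mul_le_mul_right h3 (by omega)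
  have h2p := hp.out.two_le
  have hqle : q ≤ p - 1 := Nat.le_of_dvd (by omega) hq_dvd
  have hpq : p = q + 1 := by omega
  have hq2 : q = 2 := by
    rcases hq.out.eq_two_or_odd with e | e
    · exact e
    · rcases hp.out.eq_two_or_odd with e' | e'
      · exact absurd hq.out.two_le (by omega)
      · omega
  exact ⟨hq2, by omega, key⟩

end Cfsg.Agent.Lib.CyclicSylowAbelian83
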