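import Cfsg.Agent.Lib.CyclicSylowAbelian83.Final

/-!
# Excluding a central involution of the normaliser, and the theorem

Owner: helper83.
-/

set_option autoImplicit false

namespace Cfsg.Agent.Lib.CyclicSylowAbelian83

universe u

variable {G : Type u} [Group G] [Finite G] {p : ℕ} [hp : Fact p.Prime] {P : Sylow p G} {d : G}

theorem card_sup_dvd {A E : Subgroup G} (hEA : E ≤ Subgroup.normalizer (A : Set G)) :
    Nat.card (E ⊔ A : Subgroup G) ∣ Nat.card E * Nat.card A := by
  set N := Subgroup.normalizer (A : Set G)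
  haveI : (A.subgroupOf N).Normal := Subgroup.normal_in_normalizer
  have e : A.relIndex (E ⊔ A) = A.relIndex E := by
    rw [← Subgroup.relIndex_subgroupOf (K := E ⊔ A) (L := N) (sup_le hEA Subgroup.le_normalizer),
      ← Subgroup.relIndex_subgroupOf hEA, Subgroup.subgroupOf_sup hEA Subgroup.le_normalizer,
      Subgroup.relIndex_sup_right]
  rw [← (A.subgroupOf (E ⊔ A)).index_mul_card,
    Nat.card_congr (Subgroup.subgroupOfEquivOfLe (le_sup_right : A ≤ E ⊔ A)).toEquiv]
  refine mul_dvd_mul_right ?_ _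
  show A.relIndex (E ⊔ A) ∣ _
  rw [e]
  exact Subgroup.index_dvd_card _

theorem Min.false_of_central (h : Min p P d) {x₀ : G}
    (hx₀ : x₀ ∈ Subgroup.centralizer ((P : Subgroup G) : Set G)) (hx₀p : ¬ p ∣ orderOf x₀)
    (hx₀1 : x₀ ≠ 1) : False := by
  classical
  haveI := h.cyc
  set N := Subgroup.normalizer ((P : Subgroup G) : Set G)
  set C := Subgroup.centralizer ((P : Subgroup G) : Set G) with hCdef
  have hprime : ∀ e ∈ C, ¬ p ∣ orderOf e → ∀ q : ℕ, q.Prime → q ∣ orderOf e → q = 2 ∧ p = 3 := by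
    intro e he hep q hq hqd
    haveI := Fact.mk hq
    have hx : e ^ (orderOf e / q) ∈ C := Subgroup.pow_mem _ he _
    have ho : orderOf (e ^ (orderOf e / q)) = q := orderOf_pow_orderOf_div (orderOf_pos e).ne' hqd
    obtain ⟨h2, h3, -⟩ := h.prime_central hx ho (fun hqp => hep (hqp ▸ hqd))
    exact ⟨h2, h3⟩
  obtain ⟨q, hq, hqd⟩ := Nat.exists_prime_and_dvd (orderOf_eq_one_iff.not.mpr hx₀1)
  obtain ⟨rfl, rfl⟩ := hprime x₀ hx₀ hx₀p q hq hqd
  haveI : Fact (Nat.Prime 2) := ⟨Nat.prime_two⟩
  set x := x₀ ^ (orderOf x₀ / 2) with hxdef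
  have hxC : x ∈ C := Subgroup.pow_mem _ hx₀ _
  have hxo : orderOf x = 2 := orderOf_pow_orderOf_div (orderOf_pos x₀).ne' hqd
  have hx1 : x ≠ 1 := fun e => by rw [e, orderOf_one] at hxo; norm_num at hxo
  have hxsq : x * x = 1 := invol_orderOf hxo
  have hxp : ¬ (3 : ℕ) ∣ orderOf x := by rw [hxo]; norm_num
  have hCx : Subgroup.centralizer ({x} : Set G) = N := h.centralizer_eq hxC hx1 hxp
  obtain ⟨D, hD, hDp, hDab, hfac, hDP⟩ := h.exists_complement
  have hxD : x ∈ D := h.mem_complement hD hfac hxC hxp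
  obtain ⟨g, hg, hgen⟩ := exists_generator h.cyc
  obtain ⟨n, hn⟩ := IsPGroup.iff_card.mp P.2
  have hgn : orderOf g = 3 ^ n := by rw [← Nat.card_zpowers, hgen, hn]
  have hn0 : n ≠ 0 := by
    rintro rfl
    obtain ⟨z, hz, -, hzo⟩ := h.nontrivial_P
    have := Subgroup.orderOf_dvd_natCard _ hz
    rw [hn, hzo] at this
    norm_num at this
  -- the action is through a group of order two
  have hsq : ∀ e ∈ N, ¬ (3 : ℕ) ∣ orderOf e → e ^ 2 ∈ C ∧
      ∀ f ∈ N, ¬ (3 : ℕ) ∣ orderOf f → e ∉ C → f ∉ C → e * f = f * e → e * f ∈ C := by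
    have hexp : ∀ e ∈ N, ∃ r : ℕ, e * g * e⁻¹ = g ^ r := fun e he => by
      have : e * g * e⁻¹ ∈ Subgroup.zpowers g := by
        rw [hgen]; exact (Subgroup.mem_normalizer_iff.mp he g).mp hg
      obtain ⟨r, hr⟩ := (mem_powers_iff_mem_zpowers.mpr this : e * g * e⁻¹ ∈ Submonoid.powers g)
      exact ⟨r, hr.symm⟩
    have hcomm : ∀ e : G, ¬ (3 : ℕ) ∣ orderOf e → ∀ r : ℕ, e * g * e⁻¹ = g ^ r →
        ((3 : ℕ) : ℤ) ∣ (r : ℤ) - 1 → e ∈ C := by
      intro e he r hr hmod
      rw [hCdef, ← hgen, Subgroup.zpowers_eq_closure, Subgroup.centralizer_closure]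
      exact Subgroup.mem_centralizer_singleton_iff.mpr
        (commute_of_modEq_one (n := n) he (dvd_of_eq hgn) hr hmod)
    have hnz : ∀ e : G, ∀ r : ℕ, e * g * e⁻¹ = g ^ r → r % 3 ≠ 0 := by
      intro e r hr h0
      have h1 : orderOf (g ^ r) = orderOf g := by
        rw [← hr]; exact MulEquiv.orderOf_eq (MulAut.conj e) g
      have h2 : (g ^ r) ^ 3 ^ (n - 1) = 1 := by
        obtain ⟨s, rfl⟩ := Nat.dvd_of_mod_eq_zero h0
        rw [← pow_mul, show 3 * s * 3 ^ (n - 1) = 3 ^ n * s by
          rw [mul_right_comm, ← pow_succ', Nat.sub_add_cancel (Nat.pos_of_ne_zero hn0)],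
          pow_mul, ← hgn, pow_orderOf_eq_one, one_pow]
      have := orderOf_dvd_of_pow_eq_one h2
      rw [h1, hgn, Nat.pow_dvd_pow_iff_le_right (by norm_num)] at this
      omega
    intro e he hep
    obtain ⟨r, hr⟩ := hexp e he
    have hr3 := hnz e r hr
    refine ⟨?_, fun f hf hfp heC hfC hef => ?_⟩
    · refine hcomm (e ^ 2) (fun hd => hep (hd.trans (orderOf_pow_dvd 2))) (r ^ 2)
        (conj_iter hr 2) ?_
      have : r % 3 = 1 ∨ r % 3 = 2 := by omega
      obtain ⟨k, hk⟩ : ∃ k, r = 3 * k + r % 3 := ⟨r / 3, (Nat.div_add_mod r 3).symm⟩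
      rcases this with h1 | h1 <;> rw [h1] at hk <;> subst hk
      · exact ⟨3 * (k : ℤ) ^ 2 + 2 * k, by push_cast; ring⟩
      · exact ⟨3 * (k : ℤ) ^ 2 + 4 * k + 1, by push_cast; ring⟩
    · obtain ⟨s, hs⟩ := hexp f hf
      have hs3 := hnz f s hs
      have hrr : r % 3 = 2 := by
        by_contra hne
        exact heC (hcomm e hep r hr (by omega))
      have hss : s % 3 = 2 := by
        by_contra hne
        exact hfC (hcomm f hfp s hs (by omega))
      refine hcomm (e * f) (fun hd => ?_) (r * s) ?_ ?_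
      · have h2 := hd.trans (Commute.orderOf_mul_dvd_lcm hef)
        rcases Nat.prime_three.dvd_mul.mp (h2.trans (Nat.lcm_dvd_mul _ _)) with h4 | h4
        · exact hep h4
        · exact hfp h4
      · calc e * f * g * (e * f)⁻¹ = e * (f * g * f⁻¹) * e⁻¹ := by group
          _ = g ^ (r * s) := by rw [hs, ← conj_pow, hr, ← pow_mul]
      · obtain ⟨k, hk⟩ : ∃ k, r = 3 * k + 2 := ⟨r / 3, by omega⟩
        obtain ⟨l, hl⟩ : ∃ l, s = 3 * l + 2 := ⟨s / 3, by omega⟩
        subst hk hl
        exact ⟨3 * (k : ℤ) * l + 2 * k + 2 * l + 1, by push_cast; ring⟩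
  have hDord : ∀ e ∈ D, ¬ (3 : ℕ) ∣ orderOf e := fun e he => not_dvd_orderOf_of_mem hDp he
  -- `D` is a two-group
  have hD2 : IsPGroup 2 D := by
    intro e
    have he2 := (hsq e (hD e.2) (hDord e e.2)).1
    set m := orderOf ((e : G) ^ 2) with hm
    have hm2 : ∀ r : ℕ, r.Prime → r ∣ m → r = 2 := fun r hr hrd =>
      (hprime _ he2 (fun hd => hDord e e.2 (hd.trans (orderOf_pow_dvd 2))) r hr hrd).1
    obtain ⟨k, hk⟩ : ∃ k, m = 2 ^ k :=
      ⟨_, Nat.eq_prime_pow_of_unique_prime_dvd (orderOf_pos _).ne' (fun {r} hr hrd => hm2 r hr hrd)⟩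
    refine ⟨k + 1, Subtype.ext ?_⟩
    show (e : G) ^ 2 ^ (k + 1) = 1
    rw [pow_succ', pow_mul, ← hk, pow_orderOf_eq_one]
  obtain ⟨Q, hQ⟩ := hD2.exists_le_sylow
  obtain ⟨-, -, hkey⟩ := h.prime_central hxC hxo (by norm_num)
  obtain ⟨y, ⟨k, hk⟩, hyN, hQN, hmove⟩ := hkey Q (hQ hxD)
  have hQD : ∀ e ∈ (Q : Subgroup G), e ∈ D := by
    intro e he
    obtain ⟨a, ha, b, hb, rfl⟩ := hfac e (hQN he)
    have haQ : a ∈ (Q : Subgroup G) := by
      have := Subgroup.mul_mem _ he (Subgroup.inv_mem _ (hQ hb))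
      rwa [mul_inv_cancel_right] at this
    obtain ⟨i, hi⟩ := P.2 ⟨a, ha⟩
    obtain ⟨j, hj⟩ := Q.2 ⟨a, haQ⟩
    have d1 := orderOf_dvd_of_pow_eq_one (show a ^ 3 ^ i = 1 from congrArg Subtype.val hi)
    have d2 := orderOf_dvd_of_pow_eq_one (show a ^ 2 ^ j = 1 from congrArg Subtype.val hj)
    rw [orderOf_eq_one_iff.mp (Nat.eq_one_of_dvd_coprimes
      (((Nat.coprime_primes Nat.prime_three Nat.prime_two).mpr (by norm_num)).pow i j) d1 d2), one_mul]
    exact hb
  have hyD : ∀ e ∈ D, y * e * y⁻¹ ∈ D := fun e he =>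
    hQD _ ((Subgroup.mem_normalizer_iff.mp hyN e).mp (hQ he))
  have hsqD : ∀ e ∈ D, e * e = 1 := by
    intro e he
    by_contra hne
    apply hmove (e * e) (hQ (D.mul_mem he he)) hne (by
      rw [← pow_two]; exact (hsq e (hD he) (hDord e he)).1)
    rw [show y * (e * e) * y⁻¹ = (y * e * y⁻¹) ^ 2 by rw [pow_two]; group]
    exact (hsq _ (hD (hyD e he)) (hDord _ (hyD e he))).1
  have hDC : ∀ e ∈ D, e ∈ C → e = 1 ∨ e = x := by
    intro e he heC
    by_contra hall
    push Not at hall
    have hnx : y * x * y⁻¹ ∉ C := hmove x (hQ hxD) hx1 hxC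
    have hne : y * e * y⁻¹ ∉ C := hmove e (hQ he) hall.1 heC
    refine hmove (e * x) (hQ (D.mul_mem he hxD)) (fun e1 => hall.2 ?_) (C.mul_mem heC hxC) ?_
    · rw [eq_inv_of_mul_eq_one_left e1, inv_eq_of_mul_eq_one_right hxsq]
    · rw [show y * (e * x) * y⁻¹ = y * e * y⁻¹ * (y * x * y⁻¹) by group]
      exact (hsq _ (hD (hyD e he)) (hDord _ (hyD e he))).2 _ (hD (hyD x hxD)) (hDord _ (hyD x hxD))
        hne hnx (comm_of_abelian hDab (hyD e he) (hyD x hxD))
  set s := y * x * y⁻¹ with hsdef
  have hsD : s ∈ D := hyD x hxD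
  have hsC : s ∉ C := hmove x (hQ hxD) hx1 hxC
  have hso : orderOf s = 2 := (MulEquiv.orderOf_eq (MulAut.conj y) x).trans hxo
  have hss : s * s = 1 := hsqD s hsD
  have hDs : ∀ e ∈ D, e ∉ C → s * e ∈ C := fun e he heC =>
    (hsq s (hD hsD) (hDord s hsD)).2 e (hD he) (hDord e he) hsC heC (comm_of_abelian hDab hsD he)
  have hDall : ∀ e ∈ D, e = 1 ∨ e = x ∨ e = s ∨ e = s * x := by
    intro e he
    by_cases heC : e ∈ C
    · rcases hDC e he heC with h1 | h1 <;> simp [h1]
    · rcases hDC _ (D.mul_mem hsD he) (hDs e he heC) with h1 | h1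
      · right; right; left
        rw [eq_inv_of_mul_eq_one_right h1, inv_eq_of_mul_eq_one_right hss]
      · right; right; right
        rw [← h1, ← mul_assoc, hss, one_mul]
  have hsx : s * x = x * s := comm_of_abelian hDab hsD hxD
  have hconjD : ∀ e ∈ D, e ≠ 1 → IsConj x e := by
    intro e he he1
    have hxs : IsConj x s := isConj_iff.mpr ⟨y, rfl⟩
    rcases hDall e he with h1 | h1 | h1 | h1
    · exact absurd h1 he1
    · rw [h1]
    · rw [h1]; exact hxs
    · rw [h1]
      have hys : y * s * y⁻¹ = s * x := by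
        rcases hDall _ (hyD s hsD) with h2 | h2 | h2 | h2
        · rw [mul_inv_eq_one, mul_eq_left] at h2
          rw [h2, orderOf_one] at hso
          norm_num at hso
        · exfalso
          have hy2 : y ^ 2 ∈ Subgroup.centralizer ({x} : Set G) := by
            rw [Subgroup.mem_centralizer_singleton_iff]
            have e1 : y ^ 2 * x * (y ^ 2)⁻¹ = x := by
              rw [show y ^ 2 * x * (y ^ 2)⁻¹ = y * (y * x * y⁻¹) * y⁻¹ by rw [pow_two]; group]
              exact h2
            exact mul_inv_eq_iff_eq_mul.mp e1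
          obtain ⟨m, hm⟩ := exists_pow_eq_self_of_coprime (x := y) (n := 2)
            (Nat.Coprime.coprime_dvd_right (orderOf_dvd_of_pow_eq_one hk)
              (Nat.Coprime.pow_right _ (by norm_num)))
          have hyc : y ∈ Subgroup.centralizer ({x} : Set G) := hm ▸ Subgroup.pow_mem _ hy2 m
          apply hsC
          rw [hsdef, Subgroup.mem_centralizer_singleton_iff.mp hyc, mul_inv_cancel_right]
          exact hxC
        · exfalso
          apply hsC
          have : s = x := mul_left_cancel (mul_right_cancel (h2.trans hsdef))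
          rw [this]; exact hxC
        · exact h2
      exact hxs.trans (isConj_iff.mpr ⟨y, hys⟩)
  have hCmem : ∀ a ∈ C, ∃ z ∈ (P : Subgroup G), ∃ e ∈ D, e ∈ C ∧ a = z * e := by
    intro a ha
    obtain ⟨z, hz, e, he, rfl⟩ := hfac a (Subgroup.centralizer_le_normalizer _ ha)
    have hzC : z ∈ C := Subgroup.mem_centralizer_iff.mpr fun w hw =>
      comm_of_abelian (IsCyclic.commutative (α := (P : Subgroup G))) hw hz
    refine ⟨z, hz, e, he, ?_, rfl⟩
    have := C.mul_mem (C.inv_mem hzC) ha
    rwa [inv_mul_cancel_left] at this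
  have hPC : (P : Subgroup G) ≤ C := fun z hz => Subgroup.mem_centralizer_iff.mpr fun w hw =>
    comm_of_abelian (IsCyclic.commutative (α := (P : Subgroup G))) hw hz
  have hinvP : ∀ z ∈ (P : Subgroup G), s * z * s⁻¹ = z⁻¹ := by
    intro z hz
    have hzz : s * z * s⁻¹ ∈ (P : Subgroup G) := (Subgroup.mem_normalizer_iff.mp (hD hsD) z).mp hz
    by_contra hne
    have hy1 : z * (s * z * s⁻¹) ≠ 1 := fun e => hne (eq_inv_of_mul_eq_one_right e)
    refine hsC (mem_centralizer_of_fix P.2 h.cyc (hDord s hsD) (hD hsD)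
      ((P : Subgroup G).mul_mem hz hzz) hy1 ?_)
    have hc := comm_of_abelian (IsCyclic.commutative (α := (P : Subgroup G))) hz hzz
    have hsi : s⁻¹ = s := inv_eq_of_mul_eq_one_right hss
    calc s * (z * (s * z * s⁻¹)) = s * z * s⁻¹ * (s * s * z * s⁻¹) := by group
      _ = s * z * s⁻¹ * (z * s⁻¹) := by rw [hss, one_mul]
      _ = z * (s * z * s⁻¹) * s⁻¹ := by rw [hc]; group
      _ = z * (s * z * s⁻¹) * s := by nth_rewrite 2 [hsi]; rfl
  have hexC : ∀ e ∈ D, e ∈ C → ∀ z ∈ (P : Subgroup G), e * z = z * e := fun e _ heC z hz =>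
    (Subgroup.mem_centralizer_iff.mp heC z hz).symm
  have hCD : ∀ a ∈ C, ∃ z ∈ (P : Subgroup G), a = z ∨ a = z * x := by
    intro a ha
    obtain ⟨z, hz, e, he, heC, rfl⟩ := hCmem a ha
    rcases hDC e he heC with rfl | rfl
    · exact ⟨z, hz, Or.inl (mul_one z)⟩
    · exact ⟨z, hz, Or.inr rfl⟩
  have hodd : ∀ z ∈ (P : Subgroup G), z * z = 1 → z = 1 := by
    intro z hz h2
    obtain ⟨i, hi⟩ := P.2 ⟨z, hz⟩
    exact orderOf_eq_one_iff.mp (Nat.eq_one_of_dvd_coprimes
      (Nat.Coprime.pow_right i (by norm_num : Nat.Coprime 2 3))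
      (orderOf_dvd_of_pow_eq_one (show z ^ 2 = 1 by rw [pow_two]; exact h2))
      (orderOf_dvd_of_pow_eq_one (show z ^ 3 ^ i = 1 from congrArg Subtype.val hi)))
  have hsquare : ∀ a ∈ C, ∃ z ∈ (P : Subgroup G), a * a = z * z := by
    intro a ha
    obtain ⟨z, hz, rfl | rfl⟩ := hCD a ha
    · exact ⟨a, hz, rfl⟩
    · refine ⟨z, hz, ?_⟩
      calc z * x * (z * x) = z * (x * z) * x := by group
        _ = z * z * (x * x) := by rw [hexC x hxD hxC z hz]; group
        _ = z * z := by rw [hxsq, mul_one]
  have hKcomm : ∀ a ∈ C, ∀ b ∈ C, a * b = b * a := by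
    intro a ha b hb
    obtain ⟨z, hz, e, he, heC, rfl⟩ := hCmem a ha
    obtain ⟨z', hz', e', he', heC', rfl⟩ := hCmem b hb
    calc z * e * (z' * e') = z * (e * z') * e' := by group
      _ = z * z' * (e * e') := by rw [hexC e he heC z' hz']; group
      _ = z' * z * (e' * e) := by
        rw [comm_of_abelian (IsCyclic.commutative (α := (P : Subgroup G))) hz hz',
          comm_of_abelian hDab he he']
      _ = z' * (e' * z) * e := by rw [hexC e' he' heC' z hz]; group
      _ = z' * e' * (z * e) := by group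
  have hallconj : ∀ v : G, orderOf v = 2 → IsConj x v := by
    intro v hv
    obtain ⟨R, hR⟩ := (IsPGroup.of_card (p := 2) (n := 1) (G := Subgroup.zpowers v)
      (by rw [Nat.card_zpowers, hv, pow_one])).exists_le_sylow
    obtain ⟨c, rfl⟩ := MulAction.exists_smul_eq G Q R
    obtain ⟨w, hw, e⟩ := hR (Subgroup.mem_zpowers v)
    have hwv : c * w * c⁻¹ = v := e
    have hw1 : w ≠ 1 := fun e1 => by
      rw [e1, mul_one, mul_inv_cancel] at hwv
      rw [← hwv, orderOf_one] at hv
      norm_num at hv
    exact (hconjD w (hQD w hw) hw1).trans (isConj_iff.mpr ⟨c, hwv⟩)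
  have hBSW : Cfsg.Agent.Lib.BSW.Hyp x s C :=
    { ht := hxo
      hs := hso
      htK := hxC
      hsK := hsC
      hst := hsx
      comm := hKcomm
      inv := fun a ha => by
        obtain ⟨z, hz, rfl | rfl⟩ := hCD a ha
        · exact hinvP a hz
        · rw [show s * (z * x) * s⁻¹ = s * z * s⁻¹ * (s * x * s⁻¹) by group, hinvP z hz, hsx,
            mul_inv_cancel_right, mul_inv_rev, inv_eq_of_mul_eq_one_right hxsq]
          exact (hexC x hxD hxC _ (Subgroup.inv_mem _ hz)).symm
      cases' := fun a ha => by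
        have haN : a ∈ N := hCx ▸ Subgroup.mem_centralizer_singleton_iff.mpr ha
        obtain ⟨z, hz, e, he, rfl⟩ := hfac a haN
        by_cases heC : e ∈ C
        · exact Or.inl (C.mul_mem (hPC hz) heC)
        · refine Or.inr ?_
          rw [show s * (z * e) = s * z * s⁻¹ * (s * e) by group, hinvP z hz]
          exact C.mul_mem (hPC (Subgroup.inv_mem _ hz)) (hDs e he heC)
      unique := fun a ha h2 => by
        obtain ⟨z, hz, rfl | rfl⟩ := hCD a ha
        · exact Or.inl (hodd a hz h2)
        · refine Or.inr ?_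
          have : z * z = 1 := by
            calc z * z = z * z * (x * x) := by rw [hxsq, mul_one]
              _ = z * (x * z) * x := by rw [hexC x hxD hxC z hz]; group
              _ = z * x * (z * x) := by group
              _ = 1 := h2
          rw [hodd z hz this, one_mul]
      ti := fun a ha ha1 c hc => by
        by_cases h2 : a * a = 1
        · obtain ⟨z, hz, rfl | rfl⟩ := hCD a ha
          · exact absurd (hodd a hz h2) ha1
          · have hz1 : z = 1 := by
              refine hodd z hz ?_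
              calc z * z = z * z * (x * x) := by rw [hxsq, mul_one]
                _ = z * (x * z) * x := by rw [hexC x hxD hxC z hz]; group
                _ = z * x * (z * x) := by group
                _ = 1 := h2
            subst hz1
            rw [one_mul] at hc
            obtain ⟨w, hw, e | e⟩ := hCD _ hc
            · exfalso
              have : w * w = 1 := by rw [← e]; exact conj_sq hxsq c
              rw [hodd w hw this, mul_inv_eq_one, mul_eq_left] at e
              exact hx1 e
            · have : w = 1 := by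
                refine hodd w hw ?_
                calc w * w = w * w * (x * x) := by rw [hxsq, mul_one]
                  _ = w * (x * w) * x := by rw [hexC x hxD hxC w hw]; group
                  _ = w * x * (w * x) := by group
                  _ = 1 := by rw [← e]; exact conj_sq hxsq c
              rw [this, one_mul] at e
              exact mul_inv_eq_iff_eq_mul.mp e
        · obtain ⟨z, hz, ez⟩ := hsquare a ha
          obtain ⟨w, hw, ew⟩ := hsquare _ hc
          have hcN : c ∈ N := h.ti (z := a * a) (by rw [ez]; exact Subgroup.mul_mem _ hz hz) h2 (by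
            rw [show c * (a * a) * c⁻¹ = c * a * c⁻¹ * (c * a * c⁻¹) by group, ew]
            exact Subgroup.mul_mem _ hw hw)
          rw [← hCx] at hcN
          exact Subgroup.mem_centralizer_singleton_iff.mp hcN
      conj := fun a b ha hb => (hallconj a ha).symm.trans (hallconj b hb) }
  obtain ⟨Q₁, D₁, -, hQcent, hD₁ab, hcard, hQD₁, hNQ, hND₁⟩ :=
    Cfsg.Agent.Lib.BSW.brauer_suzuki_wall hBSW
  have h3Q : ¬ (3 : ℕ) ∣ Nat.card Q₁ := by
    intro hd
    obtain ⟨z, hz⟩ := exists_prime_orderOf_dvd_card' 3 hd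
    have hzp : IsPGroup 3 (Subgroup.zpowers (z : G)) :=
      IsPGroup.of_card (n := 1) (by rw [Nat.card_zpowers, Subgroup.orderOf_coe, hz, pow_one])
    obtain ⟨R, hR⟩ := hzp.exists_le_sylow
    obtain ⟨c, rfl⟩ := MulAction.exists_smul_eq G P R
    obtain ⟨w, hw, e⟩ := hR (Subgroup.mem_zpowers (z : G))
    have hwv : c * w * c⁻¹ = (z : G) := e
    have hz1 : (z : G) ≠ 1 := fun e => by
      rw [show z = 1 from Subtype.ext e, orderOf_one] at hz
      norm_num at hz
    have hmem : c * x * c⁻¹ ∈ Q₁ := by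
      rw [← hQcent z z.2 hz1, Subgroup.mem_centralizer_singleton_iff, ← hwv]
      have := hKcomm x hxC w (hPC hw)
      calc c * x * c⁻¹ * (c * w * c⁻¹) = c * (x * w) * c⁻¹ := by group
        _ = _ := by rw [this]; group
    have h2 := Subgroup.orderOf_dvd_natCard Q₁ hmem
    have e2 : orderOf (c * x * c⁻¹) = 2 := (MulEquiv.orderOf_eq (MulAut.conj c) x).trans hxo
    rw [e2] at h2
    omega
  have hD₁p : IsPGroup 3 D₁ := by
    intro e
    obtain ⟨j, hj⟩ := prime_part (p := 3) (e : G)
    refine ⟨j, Subtype.ext ?_⟩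
    show (e : G) ^ 3 ^ j = 1
    by_contra hne
    set f := (e : G) ^ 3 ^ j
    have hfD : f ∈ D₁ := Subgroup.pow_mem _ e.2 _
    have hle : Subgroup.zpowers f ≤ Subgroup.normalizer (Q₁ : Set G) := by
      rw [Subgroup.zpowers_le, hNQ]; exact Subgroup.mem_sup_right hfD
    have hab := h.hab _ (fun hd => by
      rcases Nat.prime_three.dvd_mul.mp (hd.trans (card_sup_dvd hle)) with h1 | h1
      · exact not_dvd_card_zpowers hj h1
      · exact h3Q h1)
    have hQ1 : Q₁ ≠ ⊥ := by
      intro e1
      rw [e1, Subgroup.card_bot] at hcard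
      have : 0 < Nat.card D₁ := Nat.card_pos
      omega
    obtain ⟨q₁, hq₁, hq₁1⟩ := Q₁.bot_or_exists_ne_one.resolve_left hQ1
    have : f ∈ Q₁ := by
      rw [← hQcent q₁ hq₁ hq₁1, Subgroup.mem_centralizer_singleton_iff]
      exact comm_of_abelian hab (Subgroup.mem_sup_left (Subgroup.mem_zpowers f)) (Subgroup.mem_sup_right hq₁)
    exact hne (Subgroup.mem_bot.mp (hQD₁ ▸ Subgroup.mem_inf.mpr ⟨this, hfD⟩))
  have hD₁ne : D₁ ≠ ⊥ := by
    intro e
    rw [e, Subgroup.card_bot] at hcard
    exact h3Q (hcard ▸ (by norm_num))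
  obtain ⟨-, u, hu, -, huD, hNeq⟩ := hND₁ D₁ le_rfl hD₁ne
  obtain ⟨R, hR⟩ := hD₁p.exists_le_sylow
  obtain ⟨c, rfl⟩ := MulAction.exists_smul_eq G P R
  have hnormV : D.map (MulAut.conj c).toMonoidHom ≤ Subgroup.normalizer (D₁ : Set G) := by
    rintro v ⟨e, he, rfl⟩
    refine Subgroup.mem_normalizer_fintype fun a (ha : a ∈ D₁) => ?_
    obtain ⟨w, hw, hwa⟩ := hR ha
    have hwa' : c * w * c⁻¹ = a := hwa
    have hew : e * w * e⁻¹ = w ∨ e * w * e⁻¹ = w⁻¹ := by
      by_cases heC : e ∈ C
      · exact Or.inl (by rw [hexC e he heC w hw, mul_inv_cancel_right])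
      · refine Or.inr ?_
        have hse := hexC _ (D.mul_mem hsD he) (hDs e he heC) w hw
        have hsi : s⁻¹ = s := inv_eq_of_mul_eq_one_right hss
        calc e * w * e⁻¹ = s * (s * e * w) * (s * e)⁻¹ * s⁻¹ := by
              rw [show s * (s * e * w) = (s * s) * e * w by group, hss, one_mul,
                show e * w * (s * e)⁻¹ * s⁻¹ = e * w * e⁻¹ * (s * s)⁻¹ by group, hss, inv_one, mul_one]
          _ = s * w * s⁻¹ := by rw [hse]; group
          _ = w⁻¹ := hinvP w hw
    show c * e * c⁻¹ * a * (c * e * c⁻¹)⁻¹ ∈ D₁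
    rw [← hwa', show c * e * c⁻¹ * (c * w * c⁻¹) * (c * e * c⁻¹)⁻¹ = c * (e * w * e⁻¹) * c⁻¹ by group]
    rcases hew with e1 | e1 <;> rw [e1]
    · rwa [hwa']
    · rw [show c * w⁻¹ * c⁻¹ = (c * w * c⁻¹)⁻¹ by group, hwa']
      exact D₁.inv_mem ha
  have hDcard : 4 ∣ Nat.card D := by
    have hne : s ≠ x := fun e => hsC (e ▸ hxC)
    have hs1 : s ≠ 1 := fun e => by rw [e, orderOf_one] at hso; norm_num at hso
    have hset : ({1, x, s, s * x} : Finset G) = (Set.toFinite (D : Set G)).toFinset := by
      ext e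
      simp only [Finset.mem_insert, Finset.mem_singleton, Set.Finite.mem_toFinset, SetLike.mem_coe]
      constructor
      · rintro (rfl | rfl | rfl | rfl)
        · exact D.one_mem
        · exact hxD
        · exact hsD
        · exact D.mul_mem hsD hxD
      · exact hDall e
    have hcard4 : ({1, x, s, s * x} : Finset G).card = 4 := by
      rw [Finset.card_insert_of_notMem, Finset.card_insert_of_notMem, Finset.card_insert_of_notMem,
        Finset.card_singleton]
      · simp [hx1]
      · simp [Ne.symm hne, hs1]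
      · simp only [Finset.mem_insert, Finset.mem_singleton, not_or]
        refine ⟨Ne.symm hx1, Ne.symm hs1, fun e => hne ?_⟩
        rw [eq_inv_of_mul_eq_one_left e.symm, inv_eq_of_mul_eq_one_right hxsq]
    rw [hset] at hcard4
    have e4 : Nat.card D = 4 := by
      rw [show Nat.card D = Nat.card (D : Set G) from rfl,
        Nat.card_eq_card_finite_toFinset (Set.toFinite (D : Set G)), hcard4]
    rw [e4]
  have huN : Subgroup.zpowers u ≤ Subgroup.normalizer (D₁ : Set G) := by
    rw [Subgroup.zpowers_le, hNeq]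
    exact Subgroup.mem_sup_right (Subgroup.mem_zpowers u)
  have h4 : 4 ∣ 2 * Nat.card D₁ := by
    have h1 := hDcard
    rw [← Subgroup.card_map_of_injective (f := (MulAut.conj c).toMonoidHom) (MulAut.conj c).injective] at h1
    have h2 := h1.trans (Subgroup.card_dvd_of_le hnormV)
    rw [hNeq, sup_comm] at h2
    have h3 := h2.trans (card_sup_dvd huN)
    rwa [Nat.card_zpowers, hu] at h3
  obtain ⟨i, hi⟩ := IsPGroup.iff_card.mp hD₁p
  rw [hi] at h4
  have hoddp : Odd (3 ^ i) := (by decide : Odd 3).pow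
  obtain ⟨a, ha⟩ := hoddp
  omega

/-- The theorem, in index form. -/
theorem conclusion_of_primeAbelian : ∀ (n : ℕ) (G : Type u) [Group G] [Finite G], Nat.card G = n →
    ∀ P : Sylow p G, IsCyclic (P : Subgroup G) → PrimeAbelian p G → Conclusion p G := by
  intro n
  induction n using Nat.strong_induction_on with
  | _ n ih =>
    intro G _ _ hn P hcyc hab
    by_contra hcon
    have hcon' : ¬ HasComp p G ∧ ¬ ∀ P : Sylow p G, (P : Subgroup G).Normal := not_or.mp hcon
    have hnn : ¬ (P : Subgroup G).Normal := fun hN => hcon'.2 fun R => by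
      haveI : Subsingleton (Sylow p G) := by
        refine ⟨fun A B => ?_⟩
        obtain ⟨a, rfl⟩ := MulAction.exists_smul_eq G P A
        obtain ⟨b, rfl⟩ := MulAction.exists_smul_eq G P B
        rw [Sylow.smul_eq_of_normal (P := P) (h := hN), Sylow.smul_eq_of_normal (P := P) (h := hN)]
      rwa [Subsingleton.elim R P]
    have hsubcyc : ∀ (H : Subgroup G) (R : Sylow p H), IsCyclic (R : Subgroup H) := by
      intro H R
      obtain ⟨S, hS⟩ := (R.2.map H.subtype).exists_le_sylow
      haveI : IsCyclic (S : Subgroup G) := by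
        haveI := hcyc
        exact isCyclic_of_surjective (Sylow.equiv P S).toMonoidHom (Sylow.equiv P S).surjective
      haveI : IsCyclic ↥((R : Subgroup H).map H.subtype) :=
        isCyclic_of_injective (Subgroup.inclusion hS) (Subgroup.inclusion_injective hS)
      exact isCyclic_of_injective
        (Subgroup.equivMapOfInjective (R : Subgroup H) H.subtype H.subtype_injective).toMonoidHom
        (Subgroup.equivMapOfInjective (R : Subgroup H) H.subtype H.subtype_injective).injective
    have hih : ∀ H : Subgroup G, H ≠ ⊤ → Conclusion p H := by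
      intro H hH
      have hlt : Nat.card H < n := by
        rw [← hn, ← H.card_mul_index]
        have h1 : H.index ≠ 1 := fun e => hH (Subgroup.index_eq_one.mp e)
        have h0 : H.index ≠ 0 := Subgroup.index_ne_zero_of_finite
        exact lt_mul_of_one_lt_right Nat.card_pos (by omega)
      obtain ⟨R⟩ := (inferInstance : Nonempty (Sylow p H))
      exact ih _ hlt H rfl R (hsubcyc H R) (primeAbelian_subgroup hab H)
    -- the element acting
    obtain ⟨d, hdN, hdC, hdP⟩ : ∃ d, d ∈ Subgroup.normalizer ((P : Subgroup G) : Set G) ∧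
        d ∉ Subgroup.centralizer ((P : Subgroup G) : Set G) ∧ ¬ p ∣ orderOf d := by
      by_contra hall
      push Not at hall
      haveI := hcyc
      have hNC : Subgroup.normalizer ((P : Subgroup G) : Set G) ≤
          Subgroup.centralizer ((P : Subgroup G) : Set G) := by
        intro m hm
        set N := Subgroup.normalizer ((P : Subgroup G) : Set G)
        haveI : ((P : Subgroup G).subgroupOf N).Normal := Subgroup.normal_in_normalizer
        set i := ((P : Subgroup G).subgroupOf N).index
        have hPC : (P : Subgroup G) ≤ Subgroup.centralizer ((P : Subgroup G) : Set G) := fun z hz =>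
          Subgroup.mem_centralizer_iff.mpr fun w hw =>
            comm_of_abelian (IsCyclic.commutative (α := (P : Subgroup G))) hw hz
        have h1 : m ^ i ∈ (P : Subgroup G) :=
          Subgroup.pow_index_mem ((P : Subgroup G).subgroupOf N) ⟨m, hm⟩
        obtain ⟨k, hk⟩ := prime_part (p := p) m
        have h2 : m ^ p ^ k ∈ Subgroup.centralizer ((P : Subgroup G) : Set G) := by
          by_contra hne
          exact hk (hall _ (Subgroup.pow_mem _ hm _) hne)
        have hnd : ¬ p ∣ i := (P.subtype Subgroup.le_normalizer).not_dvd_index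
        have hco : Nat.gcd (p ^ k) i = 1 := Nat.Coprime.pow_left _ (hp.out.coprime_iff_not_dvd.mpr hnd)
        have := Nat.gcd_eq_gcd_ab (p ^ k) i
        rw [hco] at this
        have e : m = (m ^ p ^ k) ^ Nat.gcdA (p ^ k) i * (m ^ i) ^ Nat.gcdB (p ^ k) i := by
          rw [← zpow_natCast m (p ^ k), ← zpow_natCast m i, ← zpow_mul, ← zpow_mul, ← zpow_add,
            ← this, Nat.cast_one, zpow_one]
        rw [e]
        exact Subgroup.mul_mem _ (Subgroup.zpow_mem _ h2 _) (Subgroup.zpow_mem _ (hPC h1) _)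
      obtain ⟨j, hj⟩ := IsPGroup.iff_card.mp P.2
      exact hcon'.1 ⟨_, MonoidHom.normal_ker _, MonoidHom.not_dvd_card_ker_transferSylow P hNC,
        j, by rw [(MonoidHom.ker_transferSylow_isComplement' P hNC).symm.index_eq_card, hj]⟩
    have hcore : ∀ K : Subgroup G, K.Normal → ¬ p ∣ Nat.card K → K = ⊥ := by
      intro K hKn hK
      by_contra hne
      have hlt : Nat.card (G ⧸ K) < n := by
        rw [← hn, ← K.index_mul_card]
        have : 1 < Nat.card K := K.one_lt_card_iff_ne_bot.mpr hne
        exact lt_mul_of_one_lt_right Nat.card_pos this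
      have hsurj : Function.Surjective (QuotientGroup.mk' K) := QuotientGroup.mk'_surjective K
      set R := P.mapSurjective hsurj
      have hR : IsCyclic (R : Subgroup (G ⧸ K)) := by
        haveI := hcyc
        exact isCyclic_of_surjective ((QuotientGroup.mk' K).subgroupMap (P : Subgroup G))
          ((QuotientGroup.mk' K).subgroupMap_surjective _)
      rcases ih _ hlt (G ⧸ K) rfl R hR (primeAbelian_quotient hab K hK) with ⟨M, hMn, hMp, k, hk⟩ | hnorm
      · refine hcon'.1 ⟨M.comap (QuotientGroup.mk' K), inferInstance, fun hd => ?_, k, ?_⟩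
        · set M' := M.comap (QuotientGroup.mk' K)
          have hKM : K ≤ M' := fun z hz => by
            show QuotientGroup.mk' K z ∈ M
            rw [show QuotientGroup.mk' K z = 1 from (QuotientGroup.eq_one_iff z).mpr hz]
            exact M.one_mem
          have e : Nat.card K * Nat.card M = Nat.card M' := by
            rw [← Subgroup.card_mul_index (K.subgroupOf M'),
              Nat.card_congr (Subgroup.subgroupOfEquivOfLe hKM).toEquiv]
            congr 1
            rw [← Subgroup.map_comap_eq_self_of_surjective hsurj M]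
            show Nat.card (Subgroup.map (QuotientGroup.mk' K) M') = _
            rw [← Subgroup.relIndex]
            have : K.relIndex M' = (QuotientGroup.mk' K).ker.relIndex M' := by rw [QuotientGroup.ker_mk']
            rw [this, Subgroup.relIndex_ker]
          rw [← e] at hd
          rcases hp.out.dvd_mul.mp hd with h1 | h1
          · exact hK h1
          · exact hMp h1
        · rw [Subgroup.index_comap_of_surjective _ hsurj, hk]
      · -- `P` would be normal
        haveI hRn := hnorm R
        -- `d` centralises `K`, hence so does `P`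
        have hdK : Subgroup.zpowers d ≤ Subgroup.normalizer (K : Set G) := by
          rw [Subgroup.normalizer_eq_top_iff.mpr hKn]; exact le_top
        have hab' := hab _ (fun hd => by
          rcases hp.out.dvd_mul.mp (hd.trans (card_sup_dvd hdK)) with h1 | h1
          · exact not_dvd_card_zpowers hdP h1
          · exact hK h1)
        haveI : (Subgroup.centralizer (K : Set G)).Normal := Subgroup.normal_centralizer
        have hdc : d ∈ Subgroup.centralizer (K : Set G) := Subgroup.mem_centralizer_iff.mpr fun w hw =>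
          comm_of_abelian hab' (Subgroup.mem_sup_right hw) (Subgroup.mem_sup_left (Subgroup.mem_zpowers d))
        obtain ⟨g, -, hgen⟩ := exists_comm_generator P.2 hcyc hdP hdN hdC
        have hPK : ∀ z ∈ (P : Subgroup G), z ∈ Subgroup.centralizer (K : Set G) := by
          intro z hz
          obtain ⟨i, rfl⟩ := hgen z hz
          refine Subgroup.pow_mem _ ?_ i
          rw [show d * g * d⁻¹ * g⁻¹ = d * (g * d⁻¹ * g⁻¹) by group]
          exact Subgroup.mul_mem _ hdc
            ((inferInstance : (Subgroup.centralizer (K : Set G)).Normal).conj_mem _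
              (Subgroup.inv_mem _ hdc) g)
        refine hnn ⟨fun z hz c => ?_⟩
        have hmem : QuotientGroup.mk' K (c * z * c⁻¹) ∈ (R : Subgroup (G ⧸ K)) := by
          rw [map_mul, map_mul, map_inv]
          exact hRn.conj_mem _ ⟨z, hz, rfl⟩ _
        obtain ⟨w, hw, hwe⟩ := hmem
        have hwK : w⁻¹ * (c * z * c⁻¹) ∈ K := QuotientGroup.eq.mp hwe
        set m := w⁻¹ * (c * z * c⁻¹) with hm
        obtain ⟨i, hi⟩ := P.2 ⟨z, hz⟩
        obtain ⟨l, hl⟩ := P.2 ⟨w, hw⟩
        have hcom : Commute w m := ((Subgroup.mem_centralizer_iff.mp (hPK w hw)) m hwK).symm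
        have e1 : c * z * c⁻¹ = w * m := by rw [hm, mul_inv_cancel_left]
        have hpow : m ^ p ^ (i + l) = 1 := by
          have h1 : (c * z * c⁻¹) ^ p ^ (i + l) = 1 := by
            rw [conj_pow, pow_add, pow_mul, show z ^ p ^ i = 1 from congrArg Subtype.val hi, one_pow]
            group
          have h2 : w ^ p ^ (i + l) = 1 := by
            rw [Nat.add_comm, pow_add, pow_mul, show w ^ p ^ l = 1 from congrArg Subtype.val hl, one_pow]
          rw [e1, hcom.mul_pow, h2, one_mul] at h1
          exact h1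
        have hm1 : m = 1 := Subgroup.mem_bot.mp (mem_of_pow_mem (not_dvd_orderOf_of_mem hK hwK)
          (H := (⊥ : Subgroup G)) (Subgroup.mem_bot.mpr hpow))
        rw [e1, hm1, mul_one]
        exact hw
    have hmin : Min p P d := ⟨hab, hcyc, hih, hcon'.1, hnn, hdN, hdC, hdP, hcore⟩
    by_cases hK : ∀ x ∈ Subgroup.centralizer ((P : Subgroup G) : Set G), ¬ p ∣ orderOf x → x = 1
    · exact hmin.false_of_selfCentral hK
    · push Not at hK
      obtain ⟨x, hx, hxp, hx1⟩ := hK
      exact hmin.false_of_central hx hxp hx1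

end Cfsg.Agent.Lib.CyclicSylowAbelian83
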