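import Cfsg.Agent.Lib.CyclicSylowAbelian83.Cases

/-!
# No minimal counterexample

Owner: helper83.
-/

set_option autoImplicit false

namespace Cfsg.Agent.Lib.CyclicSylowAbelian83

open scoped commutatorElement

universe u

variable {G : Type u} [Group G] [Finite G] {p : ℕ} [hp : Fact p.Prime] {P : Sylow p G} {d : G}

theorem Min.p_ne_two (h : Min p P d) : p ≠ 2 := by
  rintro rfl
  haveI := h.cyc
  obtain ⟨g, hg, hgen⟩ := exists_generator h.cyc
  obtain ⟨n, hn⟩ := IsPGroup.iff_card.mp P.2
  have hgn : orderOf g = 2 ^ n := by rw [← Nat.card_zpowers, hgen, hn]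
  have hdg : d * g * d⁻¹ ∈ Subgroup.zpowers g := by
    rw [hgen]; exact (Subgroup.mem_normalizer_iff.mp h.dN g).mp hg
  obtain ⟨r, hr⟩ := (mem_powers_iff_mem_zpowers.mpr hdg : d * g * d⁻¹ ∈ Submonoid.powers g)
  have hr' : d * g * d⁻¹ = g ^ r := hr.symm
  apply h.dC
  rw [← hgen, Subgroup.zpowers_eq_closure, Subgroup.centralizer_closure]
  refine Subgroup.mem_centralizer_singleton_iff.mpr ?_
  by_cases hn0 : n = 0
  · subst hn0
    rw [pow_zero, orderOf_eq_one_iff] at hgn
    simp [hgn]
  refine commute_of_modEq_one (n := n) h.dP (dvd_of_eq hgn) hr' ?_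
  -- the exponent is odd
  rcases Nat.even_or_odd r with he | ho
  · exfalso
    have h1 : orderOf (g ^ r) = 2 ^ n := by
      rw [← hr', ← hgn]; exact MulEquiv.orderOf_eq (MulAut.conj d) g
    have h2 : (g ^ r) ^ 2 ^ (n - 1) = 1 := by
      obtain ⟨s, rfl⟩ := he
      rw [← pow_mul, show (s + s) * 2 ^ (n - 1) = 2 ^ n * s by
        rw [← two_mul, mul_comm 2 s, mul_assoc, ← pow_succ', Nat.sub_add_cancel (Nat.pos_of_ne_zero hn0)]
        ring, pow_mul, ← hgn, pow_orderOf_eq_one, one_pow]
    have := orderOf_dvd_of_pow_eq_one h2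
    rw [h1, Nat.pow_dvd_pow_iff_le_right (by norm_num)] at this
    omega
  · obtain ⟨s, rfl⟩ := ho
    exact ⟨s, by push_cast; ring⟩

theorem Min.nontrivial_P (h : Min p P d) : ∃ z ∈ (P : Subgroup G), z ≠ 1 ∧ orderOf z = p := by
  have hne : (P : Subgroup G) ≠ ⊥ := fun e => h.noNormal (by rw [e]; infer_instance)
  obtain ⟨n, hn⟩ := IsPGroup.iff_card.mp P.2
  have hd : p ∣ Nat.card (P : Subgroup G) := by
    rw [hn]
    refine dvd_pow_self p ?_
    rintro rfl
    rw [pow_zero, Subgroup.card_eq_one] at hn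
    exact hne hn
  obtain ⟨z, hz⟩ := exists_prime_orderOf_dvd_card' p hd
  refine ⟨z, z.2, fun e => ?_, by rw [Subgroup.orderOf_coe, hz]⟩
  rw [show z = 1 from Subtype.ext e, orderOf_one] at hz
  exact hp.out.ne_one hz.symm

/-- When `C(P) = P`, the centraliser of a nontrivial element of `P` is `P`. -/
theorem Min.centralizer_mem (h : Min p P d)
    (hK : ∀ x ∈ Subgroup.centralizer ((P : Subgroup G) : Set G), ¬ p ∣ orderOf x → x = 1)
    {z : G} (hz : z ∈ (P : Subgroup G)) (hz1 : z ≠ 1) :
    Subgroup.centralizer ({z} : Set G) = (P : Subgroup G) := by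
  haveI := h.cyc
  refine le_antisymm (fun w hw => ?_) (fun w hw => Subgroup.mem_centralizer_singleton_iff.mpr
    (comm_of_abelian (IsCyclic.commutative (α := (P : Subgroup G))) hw hz))
  obtain ⟨D, hD, hDp, -, hfac, -⟩ := h.exists_complement
  have hwz := Subgroup.mem_centralizer_singleton_iff.mp hw
  obtain ⟨g, hg, e, he, rfl⟩ := hfac w (h.mem_of_comm hz hz1 hwz)
  have hez : e * z = z * e := by
    have hgz : g * z = z * g := comm_of_abelian (IsCyclic.commutative (α := (P : Subgroup G))) hg hz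
    apply mul_left_cancel (a := g)
    rw [← mul_assoc, hwz, ← mul_assoc, ← hgz, mul_assoc]
  have hep := not_dvd_orderOf_of_mem hDp he
  rw [hK e (mem_centralizer_of_fix P.2 h.cyc hep (hD he) hz hz1 hez) hep, mul_one]
  exact hg

theorem Min.transfer_conj (h : Min p P d) (g : G)
    (hK : ∀ x ∈ Subgroup.centralizer ((P : Subgroup G) : Set G), ¬ p ∣ orderOf x → x = 1)
    {z : G} (hz : g⁻¹ * z * g ∈ (P : Subgroup G)) (hz1 : z ≠ 1) {w : G} (hw : w * z = z * w) :
    g⁻¹ * w * g ∈ (P : Subgroup G) := by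
  rw [← h.centralizer_mem hK hz (by
    intro e
    apply hz1
    have := congrArg (fun v => g * v * g⁻¹) e
    simpa [mul_assoc] using this), Subgroup.mem_centralizer_singleton_iff]
  calc g⁻¹ * w * g * (g⁻¹ * z * g) = g⁻¹ * (w * z) * g := by group
    _ = _ := by rw [hw]; group

/-- The odd order case. -/
theorem Min.even (h : Min p P d)
    (hK : ∀ x ∈ Subgroup.centralizer ((P : Subgroup G) : Set G), ¬ p ∣ orderOf x → x = 1) :
    2 ∣ Nat.card G := by
  by_contra hodd
  haveI := h.cyc
  have hCN : Cfsg.IsCNGroup G := by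
    intro g hg
    by_cases hdvd : p ∣ Nat.card (Subgroup.centralizer ({g} : Set G))
    · obtain ⟨z, hz⟩ := exists_prime_orderOf_dvd_card' p hdvd
      have hzp : IsPGroup p (Subgroup.zpowers (z : G)) :=
        IsPGroup.of_card (n := 1) (by rw [Nat.card_zpowers, Subgroup.orderOf_coe, hz, pow_one])
      obtain ⟨R, hR⟩ := hzp.exists_le_sylow
      obtain ⟨c, rfl⟩ := MulAction.exists_smul_eq G P R
      have hzc : c⁻¹ * (z : G) * c ∈ (P : Subgroup G) := by
        obtain ⟨t, ht, e⟩ := hR (Subgroup.mem_zpowers (z : G))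
        rw [← e]
        show c⁻¹ * (c * t * c⁻¹) * c ∈ (P : Subgroup G)
        rw [show c⁻¹ * (c * t * c⁻¹) * c = t by group]
        exact ht
      have hz1 : (z : G) ≠ 1 := fun e => by
        rw [show z = 1 from Subtype.ext e, orderOf_one] at hz
        exact hp.out.ne_one hz.symm
      have hgz := Subgroup.mem_centralizer_singleton_iff.mp z.2
      have hgc : c⁻¹ * g * c ∈ (P : Subgroup G) := h.transfer_conj c hK hzc hz1 hgz.symm
      have hle : Subgroup.centralizer ({g} : Set G) ≤ (P : Subgroup G).map (MulAut.conj c).toMonoidHom := by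
        intro w hw
        refine ⟨c⁻¹ * w * c, h.transfer_conj c hK hgc hg (Subgroup.mem_centralizer_singleton_iff.mp hw), ?_⟩
        show c * (c⁻¹ * w * c) * c⁻¹ = w
        group
      have hnil : Group.IsNilpotent ↥((P : Subgroup G).map (MulAut.conj c).toMonoidHom) :=
        (P.2.map (MulAut.conj c).toMonoidHom).isNilpotent
      exact Cfsg.Agent.Lib.CNGroup.Basic.isNilpotent_mono hle hnil
    · haveI := h.hab _ hdvd
      letI : CommGroup (Subgroup.centralizer ({g} : Set G)) :=
        { (inferInstance : Group _) with mul_comm := fun a b => IsMulCommutative.is_comm.comm a b }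
      exact CommGroup.isNilpotent
  have hsol := Cfsg.Agent.Lib.Induced.CNTheorem.isSolvable_of_odd_cn
    (Nat.odd_iff.mpr (Nat.two_dvd_ne_zero.mp hodd)) hCN
  -- a nontrivial abelian characteristic subgroup of the last derived subgroup
  obtain ⟨z, hz, hz1, -⟩ := h.nontrivial_P
  obtain ⟨n, hn⟩ := (Group.isSolvable_def G).mp hsol
  obtain ⟨m, hm, hm1⟩ : ∃ m, derivedSeries G m ≠ ⊥ ∧ derivedSeries G (m + 1) = ⊥ := by
    by_contra hall
    push Not at hall
    have : ∀ m, derivedSeries G m ≠ ⊥ := by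
      intro m
      induction m with
      | zero =>
        rw [derivedSeries_zero]
        exact fun e => hz1 (Subgroup.mem_bot.mp (e ▸ Subgroup.mem_top z))
      | succ k ih => exact hall k ih
    exact this n hn
  set A := derivedSeries G m
  haveI hAn : A.Normal := derivedSeries_normal G m
  have hAab : ∀ a ∈ A, ∀ b ∈ A, a * b = b * a := by
    intro a ha b hb
    have : ⁅a, b⁆ ∈ derivedSeries G (m + 1) := by
      rw [derivedSeries_succ]; exact Subgroup.commutator_mem_commutator ha hb
    rw [hm1, Subgroup.mem_bot, commutatorElement_eq_one_iff_mul_comm] at this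
    exact this
  obtain ⟨a, ha, ha1⟩ := A.bot_or_exists_ne_one.resolve_left hm
  obtain ⟨q, hq, hqd⟩ := Nat.exists_prime_and_dvd (orderOf_eq_one_iff.not.mpr ha1)
  haveI := Fact.mk hq
  let B : Subgroup G :=
    { carrier := {t | t ∈ A ∧ t ^ q = 1}
      one_mem' := ⟨one_mem _, one_pow q⟩
      mul_mem' := fun {a b} ha hb => ⟨mul_mem ha.1 hb.1, by
        rw [(show Commute a b from hAab a ha.1 b hb.1).mul_pow, ha.2, hb.2, one_mul]⟩
      inv_mem' := fun {a} ha => ⟨inv_mem ha.1, by rw [inv_pow, ha.2, inv_one]⟩ }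
  haveI hBn : B.Normal := ⟨fun b hb g => ⟨hAn.conj_mem b hb.1 g, by
    rw [conj_pow, hb.2, mul_one, mul_inv_cancel]⟩⟩
  have hBq : IsPGroup q B := fun b => ⟨1, Subtype.ext (by rw [pow_one]; exact b.2.2)⟩
  obtain ⟨b, hb, hb1⟩ : ∃ b ∈ B, b ≠ 1 := by
    refine ⟨a ^ (orderOf a / q), ⟨A.pow_mem ha _, ?_⟩, fun e => ?_⟩
    · rw [← pow_mul, Nat.div_mul_cancel hqd, pow_orderOf_eq_one]
    · have := orderOf_dvd_of_pow_eq_one e
      have hpos := orderOf_pos a
      have h2 := Nat.le_of_dvd (Nat.div_pos (Nat.le_of_dvd hpos hqd) hq.pos) this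
      exact absurd h2 (not_le.mpr (Nat.div_lt_self hpos hq.one_lt))
  by_cases hqp : q = p
  · subst hqp
    have hBP : B ≤ (P : Subgroup G) := by
      obtain ⟨R, hR⟩ := hBq.exists_le_sylow
      obtain ⟨c, hc⟩ := MulAction.exists_smul_eq G R P
      intro t ht
      rw [← hc]
      exact ⟨c⁻¹ * t * c, hR (by simpa using hBn.conj_mem t ht c⁻¹), by simp [mul_assoc]⟩
    refine h.noNormal ⟨fun t ht g => ?_⟩
    exact (Subgroup.mem_normalizer_iff.mp
      (h.ti (hBP hb) hb1 (hBP (hBn.conj_mem b hb g))) t).mp ht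
  · have := h.noCore B hBn (fun hd => hqp (by
      obtain ⟨k, hk⟩ := IsPGroup.iff_card.mp hBq
      rw [hk] at hd
      exact ((Nat.prime_dvd_prime_iff_eq hp.out hq).mp (hp.out.dvd_of_dvd_pow hd)).symm))
    exact hb1 (Subgroup.mem_bot.mp (this ▸ hb))

theorem conj_sq {G : Type u} [Group G] {u : G} (hu : u * u = 1) (g : G) :
    g * u * g⁻¹ * (g * u * g⁻¹) = 1 := by
  rw [show g * u * g⁻¹ * (g * u * g⁻¹) = g * (u * u) * g⁻¹ by group, hu, mul_one, mul_inv_cancel]

theorem invol_orderOf {G : Type u} [Group G] {u : G} (hu : orderOf u = 2) : u * u = 1 := by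
  rw [← pow_two, ← hu, pow_orderOf_eq_one]

theorem product_pow {G : Type u} [Group G] {u v : G} (hu : u * u = 1) (hv : v * v = 1) :
    u * (u * v) * u⁻¹ = (u * v)⁻¹ := by
  rw [mul_inv_rev, inv_eq_of_mul_eq_one_right hu, inv_eq_of_mul_eq_one_right hv, ← mul_assoc, hu,
    one_mul]

/-- Two noncommuting involutions lie in the normaliser of a conjugate of `P`. -/
theorem Min.pair (h : Min p P d) {u v : G} (hu : orderOf u = 2) (hv : orderOf v = 2)
    (huv : u * v ≠ v * u) :
    ∃ (g : G) (k : ℕ), (u * v) ^ k ≠ 1 ∧ g⁻¹ * (u * v) ^ k * g ∈ (P : Subgroup G) := by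
  set w := u * v
  set E := Subgroup.zpowers w
  have hu' := invol_orderOf hu
  by_cases hpd : p ∣ orderOf w
  · have hord : orderOf (w ^ (orderOf w / p)) = p := orderOf_pow_orderOf_div (orderOf_pos w).ne' hpd
    have hzp : IsPGroup p (Subgroup.zpowers (w ^ (orderOf w / p))) :=
      IsPGroup.of_card (n := 1) (by rw [Nat.card_zpowers, hord, pow_one])
    obtain ⟨R, hR⟩ := hzp.exists_le_sylow
    obtain ⟨c, rfl⟩ := MulAction.exists_smul_eq G P R
    refine ⟨c, orderOf w / p, fun e => ?_, ?_⟩
    · rw [e, orderOf_one] at hord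
      exact hp.out.ne_one hord.symm
    · obtain ⟨t, ht, e⟩ := hR (Subgroup.mem_zpowers _)
      rw [← e]
      show c⁻¹ * (c * t * c⁻¹) * c ∈ (P : Subgroup G)
      rw [show c⁻¹ * (c * t * c⁻¹) * c = t by group]
      exact ht
  · exfalso
    have huN : Subgroup.zpowers u ≤ Subgroup.normalizer (E : Set G) := by
      rw [Subgroup.zpowers_le]
      refine Subgroup.mem_normalizer_fintype fun y (hy : y ∈ E) => ?_
      obtain ⟨i, rfl⟩ := Subgroup.mem_zpowers_iff.mp hy
      show u * w ^ i * u⁻¹ ∈ E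
      rw [← conj_zpow, product_pow hu' (invol_orderOf hv), inv_zpow]
      exact E.inv_mem (Subgroup.zpow_mem _ (Subgroup.mem_zpowers w) i)
    have hcard : ¬ p ∣ Nat.card (Subgroup.zpowers u ⊔ E : Subgroup G) := by
      intro hd
      set N := Subgroup.normalizer (E : Set G)
      haveI : (E.subgroupOf N).Normal := Subgroup.normal_in_normalizer
      have e : E.relIndex (Subgroup.zpowers u ⊔ E) = E.relIndex (Subgroup.zpowers u) := by
        rw [← Subgroup.relIndex_subgroupOf (K := Subgroup.zpowers u ⊔ E) (L := N)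
            (sup_le huN Subgroup.le_normalizer), ← Subgroup.relIndex_subgroupOf huN,
          Subgroup.subgroupOf_sup huN Subgroup.le_normalizer, Subgroup.relIndex_sup_right]
      rw [← (E.subgroupOf (Subgroup.zpowers u ⊔ E)).index_mul_card,
        Nat.card_congr (Subgroup.subgroupOfEquivOfLe (le_sup_right : E ≤ Subgroup.zpowers u ⊔ E)).toEquiv] at hd
      rcases hp.out.dvd_mul.mp hd with h1 | h1
      · have h2 : p ∣ Nat.card (Subgroup.zpowers u) := by
          change p ∣ E.relIndex (Subgroup.zpowers u ⊔ E) at h1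
          rw [e] at h1
          exact h1.trans (Subgroup.index_dvd_card _)
        rw [Nat.card_zpowers, hu] at h2
        exact h.p_ne_two ((Nat.prime_dvd_prime_iff_eq hp.out Nat.prime_two).mp h2)
      · rw [Nat.card_zpowers] at h1
        exact hpd h1
    apply huv
    have hvmem : v ∈ Subgroup.zpowers u ⊔ E := by
      rw [show v = u * w by simp only [w]; rw [← mul_assoc, hu', one_mul]]
      exact Subgroup.mul_mem _ (Subgroup.mem_sup_left (Subgroup.mem_zpowers u))
        (Subgroup.mem_sup_right (Subgroup.mem_zpowers w))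
    exact comm_of_abelian (h.hab _ hcard) (Subgroup.mem_sup_left (Subgroup.mem_zpowers u)) hvmem

/-- The counting contradiction. -/
theorem Min.false_of_selfCentral (h : Min p P d)
    (hK : ∀ x ∈ Subgroup.centralizer ((P : Subgroup G) : Set G), ¬ p ∣ orderOf x → x = 1) :
    False := by
  classical
  haveI := h.cyc
  haveI : Fact (Nat.Prime 2) := ⟨Nat.prime_two⟩
  have h2 := h.even hK
  set N := Subgroup.normalizer ((P : Subgroup G) : Set G)
  -- no abelian normal 2-subgroup
  have hno : ∀ u : G, orderOf u = 2 → ∃ g g' : G,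
      g * u * g⁻¹ * (g' * u * g'⁻¹) ≠ g' * u * g'⁻¹ * (g * u * g⁻¹) := by
    intro u hu
    by_contra hall
    push Not at hall
    set S : Set G := {t | ∃ g : G, g * u * g⁻¹ = t}
    set A := Subgroup.closure S
    haveI hAc : IsMulCommutative A := Subgroup.isMulCommutative_closure (by
      rintro a ⟨g, rfl⟩ b ⟨g', rfl⟩; exact hall g g')
    have hAn : A.Normal := by
      refine ⟨fun a ha g => ?_⟩
      have : A ≤ A.comap (MulAut.conj g).toMonoidHom := by
        rw [Subgroup.closure_le]
        rintro t ⟨k, rfl⟩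
        refine Subgroup.subset_closure ⟨g * k, ?_⟩
        show g * k * u * (g * k)⁻¹ = g * (k * u * k⁻¹) * g⁻¹
        group
      exact this ha
    have hA2 : ∀ a ∈ A, a * a = 1 := by
      intro a ha
      induction ha using Subgroup.closure_induction with
      | mem t ht => obtain ⟨g, rfl⟩ := ht; exact conj_sq (invol_orderOf hu) g
      | one => simp
      | mul a b ha hb ha' hb' =>
        calc a * b * (a * b) = a * (b * a) * b := by group
          _ = a * a * (b * b) := by rw [comm_of_abelian hAc hb ha]; group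
          _ = 1 := by rw [ha', hb', one_mul]
      | inv a _ ha' => rw [← mul_inv_rev, ha', inv_one]
    have hA2g : IsPGroup 2 A := fun a => ⟨1, Subtype.ext (by rw [pow_one, pow_two]; exact hA2 a a.2)⟩
    have hbot := h.noCore A hAn (fun hd => h.p_ne_two (by
      obtain ⟨k, hk⟩ := IsPGroup.iff_card.mp hA2g
      rw [hk] at hd
      exact (Nat.prime_dvd_prime_iff_eq hp.out Nat.prime_two).mp (hp.out.dvd_of_dvd_pow hd)))
    have : u ∈ A := Subgroup.subset_closure ⟨1, by simp⟩
    rw [hbot, Subgroup.mem_bot] at this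
    rw [this, orderOf_one] at hu
    norm_num at hu
  -- a noncommuting pair gives the involution of the normaliser
  have hloc : ∀ {u v : G}, orderOf u = 2 → orderOf v = 2 → u * v ≠ v * u →
      ∃ g : G, g⁻¹ * (u * v) * g ∈ (P : Subgroup G) ∧ g⁻¹ * u * g ∈ N := by
    intro u v hu hv huv
    obtain ⟨g, k, hk1, hk⟩ := h.pair hu hv huv
    have hmem : g⁻¹ * (u * v) * g ∈ (P : Subgroup G) :=
      h.transfer_conj g hK hk hk1 (by rw [← pow_succ, ← pow_succ'])
    refine ⟨g, hmem, h.ti (z := g⁻¹ * (u * v) * g) hmem (fun e => huv ?_) ?_⟩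
    · have := congrArg (fun t => g * t * g⁻¹) e
      simp [mul_assoc] at this
      rw [mul_eq_one_iff_eq_inv] at this
      rw [this, inv_mul_cancel, mul_inv_cancel]
    · rw [show g⁻¹ * u * g * (g⁻¹ * (u * v) * g) * (g⁻¹ * u * g)⁻¹
          = g⁻¹ * (u * (u * v) * u⁻¹) * g by group, product_pow (invol_orderOf hu) (invol_orderOf hv),
        show g⁻¹ * (u * v)⁻¹ * g = (g⁻¹ * (u * v) * g)⁻¹ by group]
      exact Subgroup.inv_mem _ hmem
  obtain ⟨u₀, hu₀⟩ := exists_prime_orderOf_dvd_card' 2 h2
  obtain ⟨g₁, g₂, hne⟩ := hno u₀ hu₀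
  obtain ⟨g₀, -, hg₀N⟩ := hloc (u := g₁ * u₀ * g₁⁻¹) (v := g₂ * u₀ * g₂⁻¹)
    (by simpa using (MulEquiv.orderOf_eq (MulAut.conj g₁) u₀).trans hu₀)
    (by simpa using (MulEquiv.orderOf_eq (MulAut.conj g₂) u₀).trans hu₀) hne
  obtain ⟨t, htN, ht2⟩ : ∃ t ∈ N, orderOf t = 2 :=
    ⟨_, hg₀N, by
      have e : orderOf (g₀⁻¹ * (g₁ * u₀ * g₁⁻¹) * g₀) = orderOf (g₁ * u₀ * g₁⁻¹) := by
        simpa using MulEquiv.orderOf_eq (MulAut.conj g₀⁻¹) (g₁ * u₀ * g₁⁻¹)
      rw [e]
      simpa using (MulEquiv.orderOf_eq (MulAut.conj g₁) u₀).trans hu₀⟩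
  have hodd : ¬ p ∣ 2 := fun hd => h.p_ne_two ((Nat.prime_dvd_prime_iff_eq hp.out Nat.prime_two).mp hd)
  have hinv_fix : ∀ {u : G}, orderOf u = 2 → u ∈ N → ∀ z ∈ (P : Subgroup G), u * z * u⁻¹ = z⁻¹ := by
    intro u hu huN z hz
    have hzz : u * z * u⁻¹ ∈ (P : Subgroup G) := (Subgroup.mem_normalizer_iff.mp huN z).mp hz
    by_contra hne
    set y := z * (u * z * u⁻¹)
    have hy1 : y ≠ 1 := fun e => hne (eq_inv_of_mul_eq_one_right e)
    have hy : u * y = y * u := by
      have hu' := invol_orderOf hu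
      have hc := comm_of_abelian (IsCyclic.commutative (α := (P : Subgroup G))) hz hzz
      calc u * y = u * (z * (u * z * u⁻¹)) := rfl
        _ = u * z * u⁻¹ * (u * u * z * u⁻¹) := by group
        _ = u * z * u⁻¹ * (z * u⁻¹) := by rw [hu', one_mul]
        _ = z * (u * z * u⁻¹) * u⁻¹ := by rw [hc]; group
        _ = y * u⁻¹ := rfl
        _ = y * u := by rw [inv_eq_of_mul_eq_one_right hu']
    have := hK u (mem_centralizer_of_fix P.2 h.cyc (by rw [hu]; exact hodd) huN
      ((P : Subgroup G).mul_mem hz hzz) hy1 hy) (by rw [hu]; exact hodd)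
    rw [this, orderOf_one] at hu
    norm_num at hu
  have hcoset : ∀ u : G, (orderOf u = 2 ∧ u ∈ N) ↔ ∃ z ∈ (P : Subgroup G), u = z * t := by
    intro u
    constructor
    · rintro ⟨hu, huN⟩
      refine ⟨u * t, ?_, by rw [mul_assoc, invol_orderOf ht2, mul_one]⟩
      obtain ⟨z, hz, hz1, -⟩ := h.nontrivial_P
      rw [← h.centralizer_mem hK hz hz1, Subgroup.mem_centralizer_singleton_iff]
      have e1 : t * z = z⁻¹ * t := by rw [← hinv_fix ht2 htN z hz, inv_mul_cancel_right]
      have e2 : u * z⁻¹ = z * u := by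
        have e3 := hinv_fix hu huN z⁻¹ (Subgroup.inv_mem _ hz)
        rw [inv_inv] at e3
        calc u * z⁻¹ = u * z⁻¹ * u⁻¹ * u := by rw [inv_mul_cancel_right]
          _ = z * u := by rw [e3]
      rw [mul_assoc, e1, ← mul_assoc, e2, mul_assoc]
    · rintro ⟨z, hz, rfl⟩
      refine ⟨orderOf_eq_prime ?_ ?_, Subgroup.mul_mem _ (Subgroup.le_normalizer hz) htN⟩
      · have e1 := hinv_fix ht2 htN z hz
        rw [pow_two]
        calc z * t * (z * t) = z * (t * z * t⁻¹) * (t * t) := by group
          _ = 1 := by rw [e1, invol_orderOf ht2, mul_one, mul_inv_cancel]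
      · intro e
        have : t ∈ (P : Subgroup G) := by
          rw [eq_inv_of_mul_eq_one_right e]; exact Subgroup.inv_mem _ hz
        have h3 := Subgroup.orderOf_dvd_natCard (P : Subgroup G) this
        obtain ⟨n, hn⟩ := IsPGroup.iff_card.mp P.2
        rw [hn, ht2] at h3
        exact h.p_ne_two ((Nat.prime_dvd_prime_iff_eq Nat.prime_two hp.out).mp
          (Nat.prime_two.dvd_of_dvd_pow h3)).symm
  -- every involution in the normaliser is conjugate to `t`
  have hsqrt : ∀ z ∈ (P : Subgroup G), ∃ r ∈ (P : Subgroup G), r * r = z := by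
    intro z hz
    obtain ⟨k, hk⟩ := P.2 ⟨z, hz⟩
    have hk' : z ^ p ^ k = 1 := congrArg Subtype.val hk
    obtain ⟨m, hm⟩ := exists_pow_eq_self_of_coprime (x := z) (n := 2)
      (Nat.Coprime.coprime_dvd_right (orderOf_dvd_of_pow_eq_one hk')
        (Nat.Coprime.pow_right _ ((Nat.coprime_primes Nat.prime_two hp.out).mpr (Ne.symm h.p_ne_two))))
    exact ⟨z ^ m, Subgroup.pow_mem _ hz m, by rw [← pow_add, ← two_mul, pow_mul]; exact hm⟩
  have hconjN : ∀ u : G, orderOf u = 2 → u ∈ N → IsConj t u := by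
    intro u hu huN
    obtain ⟨z, hz, rfl⟩ := (hcoset u).mp ⟨hu, huN⟩
    obtain ⟨r, hr, rfl⟩ := hsqrt z hz
    refine isConj_iff.mpr ⟨r, ?_⟩
    have e := hinv_fix ht2 htN r hr
    calc r * t * r⁻¹ = r * (t * r⁻¹ * t⁻¹) * t := by group
      _ = r * r * t := by
        rw [show t * r⁻¹ * t⁻¹ = (t * r * t⁻¹)⁻¹ by group, e, inv_inv]
  have hnc : ∀ {u v : G}, orderOf u = 2 → orderOf v = 2 → u * v ≠ v * u → IsConj t u := by
    intro u v hu hv huv
    obtain ⟨g, -, hg⟩ := hloc hu hv huv
    have := hconjN _ (by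
      have e : orderOf (g⁻¹ * u * g) = orderOf u := by
        simpa using MulEquiv.orderOf_eq (MulAut.conj g⁻¹) u
      rw [e, hu]) hg
    exact this.trans (isConj_iff.mpr ⟨g, by group⟩)
  have hclass : ∀ u : G, orderOf u = 2 → IsConj t u := by
    intro u hu
    obtain ⟨a, b, hab⟩ := hno u hu
    have h' := hnc (u := a * u * a⁻¹) (v := b * u * b⁻¹)
      (by simpa using (MulEquiv.orderOf_eq (MulAut.conj a) u).trans hu)
      (by simpa using (MulEquiv.orderOf_eq (MulAut.conj b) u).trans hu) hab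
    exact h'.trans (isConj_iff.mpr ⟨a⁻¹, by group⟩)
  -- the centraliser of the involution
  set A := Subgroup.centralizer ({t} : Set G)
  have hAp : ¬ p ∣ Nat.card A := by
    intro hd
    obtain ⟨z, hz⟩ := exists_prime_orderOf_dvd_card' p hd
    have hzp : IsPGroup p (Subgroup.zpowers (z : G)) :=
      IsPGroup.of_card (n := 1) (by rw [Nat.card_zpowers, Subgroup.orderOf_coe, hz, pow_one])
    obtain ⟨R, hR⟩ := hzp.exists_le_sylow
    obtain ⟨c, rfl⟩ := MulAction.exists_smul_eq G P R
    obtain ⟨s, hs, e⟩ := hR (Subgroup.mem_zpowers (z : G))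
    have hz1 : (z : G) ≠ 1 := fun e => by
      rw [show z = 1 from Subtype.ext e, orderOf_one] at hz
      exact hp.out.ne_one hz.symm
    have htc := h.transfer_conj c hK (z := (z : G)) (by
        rw [← e]
        show c⁻¹ * (c * s * c⁻¹) * c ∈ (P : Subgroup G)
        rw [show c⁻¹ * (c * s * c⁻¹) * c = s by group]
        exact hs) hz1
      (Subgroup.mem_centralizer_singleton_iff.mp z.2).symm
    have h3 := Subgroup.orderOf_dvd_natCard (P : Subgroup G) htc
    obtain ⟨n, hn⟩ := IsPGroup.iff_card.mp P.2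
    have e' : orderOf (c⁻¹ * t * c) = 2 := by
      have e2 : orderOf (c⁻¹ * t * c) = orderOf t := by
        simpa using MulEquiv.orderOf_eq (MulAut.conj c⁻¹) t
      rw [e2, ht2]
    rw [hn, e'] at h3
    exact h.p_ne_two ((Nat.prime_dvd_prime_iff_eq Nat.prime_two hp.out).mp
      (Nat.prime_two.dvd_of_dvd_pow h3)).symm
  have hAab := h.hab A hAp
  have htA : t ∈ A := Subgroup.mem_centralizer_singleton_iff.mpr rfl
  have hcen : ∀ u : G, orderOf u = 2 → u * t = t * u → Subgroup.centralizer ({u} : Set G) = A := by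
    intro u hu hut
    obtain ⟨g, rfl⟩ := isConj_iff.mp (hclass u hu)
    have hcard : Nat.card (Subgroup.centralizer ({g * t * g⁻¹} : Set G)) = Nat.card A := by
      suffices hset : Subgroup.centralizer ({g * t * g⁻¹} : Set G) = A.map (MulAut.conj g).toMonoidHom by
        rw [hset]
        exact Subgroup.card_map_of_injective (MulAut.conj g).injective
      ext w
      rw [Subgroup.mem_centralizer_singleton_iff]
      constructor
      · intro hw
        refine ⟨g⁻¹ * w * g, Subgroup.mem_centralizer_singleton_iff.mpr ?_, ?_⟩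
        · calc g⁻¹ * w * g * t = g⁻¹ * (w * (g * t * g⁻¹)) * g := by group
            _ = _ := by rw [hw]; group
        · show g * (g⁻¹ * w * g) * g⁻¹ = w
          group
      · rintro ⟨v, hv, rfl⟩
        have hv' := Subgroup.mem_centralizer_singleton_iff.mp hv
        show g * v * g⁻¹ * (g * t * g⁻¹) = g * t * g⁻¹ * (g * v * g⁻¹)
        calc g * v * g⁻¹ * (g * t * g⁻¹) = g * (v * t) * g⁻¹ := by group
          _ = _ := by rw [hv']; group
    have huA : g * t * g⁻¹ ∈ A := Subgroup.mem_centralizer_singleton_iff.mpr hut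
    exact (Subgroup.eq_of_le_of_card_ge
      (fun a ha => Subgroup.mem_centralizer_singleton_iff.mpr (comm_of_abelian hAab ha huA))
      hcard.le).symm
  haveI := Fintype.ofFinite G
  set Inv := Finset.univ.filter fun u : G => orderOf u = 2
  set M := Inv.filter fun u : G => u * t = t * u
  -- the commuting involutions form an orbit of the normaliser of `A`
  have hM : p ∣ M.card := by
    set NA := Subgroup.normalizer (A : Set G)
    have hAN : A ≤ NA := Subgroup.le_normalizer
    have hfix : ∀ n ∈ NA, (n * t * n⁻¹ = t ↔ n ∈ A) := fun n hn => by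
      rw [Subgroup.mem_centralizer_singleton_iff, mul_inv_eq_iff_eq_mul]
    have hpow : ∀ n ∈ NA, ¬ p ∣ orderOf n → n ∈ A := by
      intro n hn hnp
      have hle : Subgroup.zpowers n ≤ Subgroup.normalizer (A : Set G) := Subgroup.zpowers_le.mpr hn
      have hcard : ¬ p ∣ Nat.card (Subgroup.zpowers n ⊔ A : Subgroup G) := by
        intro hd
        haveI : (A.subgroupOf NA).Normal := Subgroup.normal_in_normalizer
        have e : A.relIndex (Subgroup.zpowers n ⊔ A) = A.relIndex (Subgroup.zpowers n) := by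
          rw [← Subgroup.relIndex_subgroupOf (K := Subgroup.zpowers n ⊔ A) (L := NA)
              (sup_le hle Subgroup.le_normalizer), ← Subgroup.relIndex_subgroupOf hle,
            Subgroup.subgroupOf_sup hle Subgroup.le_normalizer, Subgroup.relIndex_sup_right]
        rw [← (A.subgroupOf (Subgroup.zpowers n ⊔ A)).index_mul_card,
          Nat.card_congr (Subgroup.subgroupOfEquivOfLe (le_sup_right : A ≤ Subgroup.zpowers n ⊔ A)).toEquiv] at hd
        rcases hp.out.dvd_mul.mp hd with h1 | h1
        · change p ∣ A.relIndex (Subgroup.zpowers n ⊔ A) at h1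
          rw [e] at h1
          exact not_dvd_card_zpowers hnp (h1.trans (Subgroup.index_dvd_card _))
        · exact hAp h1
      exact Subgroup.mem_centralizer_singleton_iff.mpr (comm_of_abelian (h.hab _ hcard)
        (Subgroup.mem_sup_left (Subgroup.mem_zpowers n)) (Subgroup.mem_sup_right htA))
    have hMeq : M.card = (A.subgroupOf NA).index := by
      rw [Subgroup.index, ← Nat.card_eq_finsetCard M]
      refine (Nat.card_congr (Equiv.ofBijective
        (Quotient.lift (fun n : NA => (⟨(n : G) * t * (n : G)⁻¹, ?_⟩ : M)) ?_) ⟨?_, ?_⟩)).symm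
      · refine Finset.mem_filter.mpr ⟨Finset.mem_filter.mpr ⟨Finset.mem_univ _, ?_⟩, ?_⟩
        · simpa using (MulEquiv.orderOf_eq (MulAut.conj (n : G)) t).trans ht2
        · exact Subgroup.mem_centralizer_singleton_iff.mp
            ((Subgroup.mem_normalizer_iff.mp n.2 t).mp htA)
      · intro a b hab
        replace hab := QuotientGroup.leftRel_apply.mp hab
        have := Subgroup.mem_centralizer_singleton_iff.mp (Subgroup.mem_subgroupOf.mp hab)
        refine Subtype.ext ?_
        show (a : G) * t * (a : G)⁻¹ = (b : G) * t * (b : G)⁻¹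
        simp only [Subgroup.coe_mul, Subgroup.coe_inv] at this
        calc (a : G) * t * (a : G)⁻¹ = (a : G) * (t * ((a : G)⁻¹ * b)) * (b : G)⁻¹ := by group
          _ = _ := by rw [← this]; group
      · rintro ⟨a⟩ ⟨b⟩ e
        refine Quotient.sound (QuotientGroup.leftRel_apply.mpr (Subgroup.mem_subgroupOf.mpr ?_))
        have e' : (a : G) * t * (a : G)⁻¹ = (b : G) * t * (b : G)⁻¹ := congrArg Subtype.val e
        rw [Subgroup.mem_centralizer_singleton_iff]
        simp only [Subgroup.coe_mul, Subgroup.coe_inv]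
        calc (a : G)⁻¹ * b * t = (a : G)⁻¹ * ((b : G) * t * (b : G)⁻¹) * b := by group
          _ = _ := by rw [← e']; group
      · rintro ⟨v, hv⟩
        obtain ⟨hv1, hv2⟩ := Finset.mem_filter.mp hv
        obtain ⟨g, hg⟩ := isConj_iff.mp (hclass v (Finset.mem_filter.mp hv1).2)
        have hCv := hcen v (Finset.mem_filter.mp hv1).2 hv2
        have hgN : g ∈ NA := by
          refine Subgroup.mem_normalizer_fintype fun a (ha : a ∈ A) => ?_
          show g * a * g⁻¹ ∈ A
          rw [← hCv, Subgroup.mem_centralizer_singleton_iff, ← hg]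
          have ha' := Subgroup.mem_centralizer_singleton_iff.mp ha
          calc g * a * g⁻¹ * (g * t * g⁻¹) = g * (a * t) * g⁻¹ := by group
            _ = _ := by rw [ha']; group
        exact ⟨Quotient.mk _ ⟨g, hgN⟩, Subtype.ext hg⟩
    rw [hMeq]
    haveI hAn : (A.subgroupOf NA).Normal := Subgroup.normal_in_normalizer
    have hmem : ∀ n ∈ NA, ∃ k : ℕ, n ^ p ^ k ∈ A := fun n hn => by
      obtain ⟨k, hk⟩ := prime_part (p := p) n
      exact ⟨k, hpow _ (Subgroup.pow_mem _ hn _) hk⟩
    by_contra hnd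
    -- otherwise `t` is the only involution of `A`
    have hNA : NA ≤ A := by
      intro n hn
      obtain ⟨k, hk⟩ := hmem n hn
      have h1 : n ^ (A.subgroupOf NA).index ∈ A := (A.subgroupOf NA).pow_index_mem ⟨n, hn⟩
      have hco : Nat.gcd (p ^ k) (A.subgroupOf NA).index = 1 :=
        Nat.Coprime.pow_left _ (hp.out.coprime_iff_not_dvd.mpr hnd)
      have := Nat.gcd_eq_gcd_ab (p ^ k) (A.subgroupOf NA).index
      rw [hco] at this
      have e : n = (n ^ p ^ k) ^ Nat.gcdA (p ^ k) (A.subgroupOf NA).index *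
          (n ^ (A.subgroupOf NA).index) ^ Nat.gcdB (p ^ k) (A.subgroupOf NA).index := by
        rw [← zpow_natCast n (p ^ k), ← zpow_natCast n (A.subgroupOf NA).index, ← zpow_mul,
          ← zpow_mul, ← zpow_add, ← this, Nat.cast_one, zpow_one]
      rw [e]
      exact A.mul_mem (A.zpow_mem hk _) (A.zpow_mem h1 _)
    have hone : ∀ u ∈ Inv, u * t = t * u → u = t := by
      intro u hu hut
      obtain ⟨g, hg⟩ := isConj_iff.mp (hclass u (Finset.mem_filter.mp hu).2)
      have hCv := hcen u (Finset.mem_filter.mp hu).2 hut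
      have hgN : g ∈ NA := by
        refine Subgroup.mem_normalizer_fintype fun a (ha : a ∈ A) => ?_
        show g * a * g⁻¹ ∈ A
        rw [← hCv, Subgroup.mem_centralizer_singleton_iff, ← hg]
        have ha' := Subgroup.mem_centralizer_singleton_iff.mp ha
        calc g * a * g⁻¹ * (g * t * g⁻¹) = g * (a * t) * g⁻¹ := by group
          _ = _ := by rw [ha']; group
      rw [← hg, (hfix g hgN).mpr (hNA hgN)]
    -- the transfer to a Sylow two-subgroup
    obtain ⟨S, hS⟩ := (IsPGroup.of_card (p := 2) (n := 1) (G := Subgroup.zpowers t)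
      (by rw [Nat.card_zpowers, ht2, pow_one])).exists_le_sylow
    obtain ⟨y, ⟨k, hk⟩, hyN, hyC⟩ := h.exists_mover (Ne.symm h.p_ne_two) h2 S
    have hSp : ¬ p ∣ Nat.card (S : Subgroup G) := by
      obtain ⟨j, hj⟩ := IsPGroup.iff_card.mp S.2
      rw [hj]
      exact fun hd => h.p_ne_two ((Nat.prime_dvd_prime_iff_eq hp.out Nat.prime_two).mp (hp.out.dvd_of_dvd_pow hd))
    have hSA : (S : Subgroup G) ≤ A := fun s hs => Subgroup.mem_centralizer_singleton_iff.mpr
      (comm_of_abelian (h.hab _ hSp) hs (hS (Subgroup.mem_zpowers t)))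
    have hyt : y * t * y⁻¹ = t := by
      refine hone _ (Finset.mem_filter.mpr ⟨Finset.mem_univ _, ?_⟩)
        (Subgroup.mem_centralizer_singleton_iff.mp
          (hSA ((Subgroup.mem_normalizer_iff.mp hyN t).mp (hS (Subgroup.mem_zpowers t)))))
      simpa using (MulEquiv.orderOf_eq (MulAut.conj y) t).trans ht2
    apply hyC
    rw [Subgroup.mem_centralizer_iff]
    intro s hs
    exact comm_of_abelian hAab (hSA hs)
      (Subgroup.mem_centralizer_singleton_iff.mpr (mul_inv_eq_iff_eq_mul.mp hyt))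
  -- counting
  have hI : Inv.card * Nat.card A = Nat.card G := by
    rw [← A.index_mul_card]
    congr 1
    rw [Subgroup.index, ← Nat.card_eq_finsetCard Inv]
    refine (Nat.card_congr (Equiv.ofBijective
      (Quotient.lift (fun g : G => (⟨g * t * g⁻¹, ?_⟩ : Inv)) ?_) ⟨?_, ?_⟩)).symm
    · exact Finset.mem_filter.mpr ⟨Finset.mem_univ _, by
        simpa using (MulEquiv.orderOf_eq (MulAut.conj g) t).trans ht2⟩
    · intro a b hab
      replace hab := QuotientGroup.leftRel_apply.mp hab
      have := Subgroup.mem_centralizer_singleton_iff.mp hab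
      refine Subtype.ext ?_
      show a * t * a⁻¹ = b * t * b⁻¹
      calc a * t * a⁻¹ = a * (t * (a⁻¹ * b)) * b⁻¹ := by group
        _ = _ := by rw [← this]; group
    · rintro ⟨a⟩ ⟨b⟩ e
      refine Quotient.sound (QuotientGroup.leftRel_apply.mpr ?_)
      have e' : a * t * a⁻¹ = b * t * b⁻¹ := congrArg Subtype.val e
      rw [Subgroup.mem_centralizer_singleton_iff]
      calc a⁻¹ * b * t = a⁻¹ * (b * t * b⁻¹) * b := by group
        _ = _ := by rw [← e']; group
    · rintro ⟨v, hv⟩
      obtain ⟨g, hg⟩ := isConj_iff.mp (hclass v (Finset.mem_filter.mp hv).2)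
      exact ⟨Quotient.mk _ g, Subtype.ext hg⟩
  set T := Finset.univ.filter fun g : G => g⁻¹ * t * g ∈ N
  have hPcard : 1 ≤ Nat.card (P : Subgroup G) := Nat.card_pos
  have hTcard : T.card = Nat.card (P : Subgroup G) * Nat.card A := by
    have hbij : ∀ u : G, (∃ z ∈ (P : Subgroup G), u = z * t) →
        (Finset.univ.filter fun g : G => g⁻¹ * t * g = u).card = Nat.card A := by
      intro u hu
      obtain ⟨g0, hg0⟩ := isConj_iff.mp (hclass u ((hcoset u).mpr hu).1)
      rw [Nat.card_eq_fintype_card, ← Finset.card_univ]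
      refine Finset.card_bij' (fun g hg => ⟨g * g0, Subgroup.mem_centralizer_singleton_iff.mpr ?_⟩)
        (fun a _ => (a : G) * g0⁻¹) (fun _ _ => Finset.mem_univ _) (fun a _ => ?_)
        (fun g _ => mul_inv_cancel_right g g0) (fun a _ => Subtype.ext (inv_mul_cancel_right (a : G) g0))
      · have hg' := (Finset.mem_filter.mp hg).2
        rw [← hg0] at hg'
        calc g * g0 * t = g * (g0 * t * g0⁻¹) * g0 := by group
          _ = g * (g⁻¹ * t * g) * g0 := by rw [hg']
          _ = t * (g * g0) := by group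
      · refine Finset.mem_filter.mpr ⟨Finset.mem_univ _, ?_⟩
        have ha := Subgroup.mem_centralizer_singleton_iff.mp a.2
        calc ((a : G) * g0⁻¹)⁻¹ * t * ((a : G) * g0⁻¹) = g0 * (a : G)⁻¹ * (t * a) * g0⁻¹ := by group
          _ = g0 * t * g0⁻¹ := by rw [← ha]; group
          _ = u := hg0
    rw [Finset.card_eq_sum_card_fiberwise (f := fun g => g⁻¹ * t * g)
      (t := Finset.univ.filter fun u : G => ∃ z ∈ (P : Subgroup G), u = z * t)
      (fun g hg => Finset.mem_filter.mpr ⟨Finset.mem_univ _, (hcoset _).mp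
        ⟨(by
          have e : orderOf (g⁻¹ * t * g) = orderOf t := by
            simpa using MulEquiv.orderOf_eq (MulAut.conj g⁻¹) t
          rw [e, ht2]), (Finset.mem_filter.mp hg).2⟩⟩)]
    have hfib : ∀ u ∈ Finset.univ.filter (fun u : G => ∃ z ∈ (P : Subgroup G), u = z * t),
        (T.filter fun g => g⁻¹ * t * g = u).card = Nat.card A := by
      intro u hu
      rw [← hbij u (Finset.mem_filter.mp hu).2]
      congr 1
      ext g
      simp only [T, Finset.mem_filter, Finset.mem_univ, true_and, and_iff_right_iff_imp]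
      rintro rfl
      exact ((hcoset _).mpr (Finset.mem_filter.mp hu).2).2
    rw [Finset.sum_congr rfl hfib, Finset.sum_const, smul_eq_mul]
    congr 1
    rw [Nat.card_eq_fintype_card, ← Finset.card_univ]
    exact (Finset.card_bij (s := (Finset.univ : Finset (P : Subgroup G)))
      (t := Finset.univ.filter fun u : G => ∃ z ∈ (P : Subgroup G), u = z * t)
      (fun z _ => (z : G) * t)
      (fun z _ => Finset.mem_filter.mpr ⟨Finset.mem_univ _, z, z.2, rfl⟩)
      (fun z _ z' _ e => Subtype.ext (mul_right_cancel e))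
      (fun u hu => by obtain ⟨z, hz, rfl⟩ := (Finset.mem_filter.mp hu).2; exact ⟨⟨z, hz⟩, Finset.mem_univ _, rfl⟩)).symm
  set U := Inv \ M
  have hpairs : U.card * Nat.card N = T.card * (Nat.card (P : Subgroup G) - 1) := by
    have hstd : ∀ g ∈ T, (U.filter fun v => g⁻¹ * v * g ∈ N).card = Nat.card (P : Subgroup G) - 1 := by
      intro g hg
      obtain ⟨z0, hz0, hz0e⟩ := (hcoset _).mp ⟨(show orderOf (g⁻¹ * t * g) = 2 by
          have e : orderOf (g⁻¹ * t * g) = orderOf t := by
            simpa using MulEquiv.orderOf_eq (MulAut.conj g⁻¹) t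
          rw [e, ht2]), (Finset.mem_filter.mp hg).2⟩
      haveI := Fintype.ofFinite (P : Subgroup G)
      have hc : Nat.card (P : Subgroup G) - 1 =
          ((Finset.univ : Finset (P : Subgroup G)).erase ⟨z0, hz0⟩).card := by
        rw [Finset.card_erase_of_mem (Finset.mem_univ _), Finset.card_univ, Nat.card_eq_fintype_card]
      rw [hc]
      refine (Finset.card_bij (s := (Finset.univ : Finset (P : Subgroup G)).erase ⟨z0, hz0⟩)
        (t := U.filter fun v => g⁻¹ * v * g ∈ N)
        (fun z _ => g * ((z : G) * t) * g⁻¹) (fun z hz => ?_) ?_ ?_).symm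
      · have hzt := (hcoset _).mpr ⟨(z : G), z.2, rfl⟩
        refine Finset.mem_filter.mpr ⟨Finset.mem_sdiff.mpr ⟨Finset.mem_filter.mpr ⟨Finset.mem_univ _, ?_⟩, ?_⟩, ?_⟩
        · simpa using (MulEquiv.orderOf_eq (MulAut.conj g) ((z : G) * t)).trans hzt.1
        · intro hm
          have hc := (Finset.mem_filter.mp hm).2
          have hc' : (z : G) * t * (z0 * t) = z0 * t * ((z : G) * t) := by
            rw [← hz0e]
            calc (z : G) * t * (g⁻¹ * t * g) = g⁻¹ * (g * ((z : G) * t) * g⁻¹ * t) * g := by group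
              _ = _ := by rw [hc]; group
          have e1 : ∀ a ∈ (P : Subgroup G), ∀ b ∈ (P : Subgroup G), a * t * (b * t) = a * b⁻¹ := by
            intro a ha b hb
            rw [← hinv_fix ht2 htN b hb]
            calc a * t * (b * t) = a * (t * b * t⁻¹) * (t * t) := by group
              _ = _ := by rw [invol_orderOf ht2, mul_one]
          rw [e1 _ z.2 _ hz0, e1 _ hz0 _ z.2] at hc'
          -- the element is its own inverse
          set y := (z : G) * z0⁻¹
          have hy2 : y * y = 1 := by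
            nth_rewrite 2 [hc']
            rw [show (z : G) * z0⁻¹ * (z0 * (z : G)⁻¹) = 1 by group]
          have hyP : y ∈ (P : Subgroup G) := Subgroup.mul_mem _ z.2 (Subgroup.inv_mem _ hz0)
          have hy1 : y = 1 := by
            obtain ⟨k, hk⟩ := P.2 ⟨y, hyP⟩
            refine orderOf_eq_one_iff.mp ?_
            have d1 := orderOf_dvd_of_pow_eq_one (show y ^ 2 = 1 by rw [pow_two]; exact hy2)
            have d2 := orderOf_dvd_of_pow_eq_one (show y ^ p ^ k = 1 from congrArg Subtype.val hk)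
            exact Nat.eq_one_of_dvd_coprimes
              (Nat.Coprime.pow_right _ ((Nat.coprime_primes Nat.prime_two hp.out).mpr (Ne.symm h.p_ne_two))) d1 d2
          exact (Finset.mem_erase.mp hz).1 (Subtype.ext (mul_inv_eq_one.mp hy1))
        · rw [show g⁻¹ * (g * ((z : G) * t) * g⁻¹) * g = (z : G) * t by group]
          exact hzt.2
      · intro z _ z' _ e
        exact Subtype.ext (mul_right_cancel (mul_left_cancel (mul_right_cancel e)))
      · intro v hv
        obtain ⟨hvU, hvN⟩ := Finset.mem_filter.mp hv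
        obtain ⟨hvI, hvM⟩ := Finset.mem_sdiff.mp hvU
        obtain ⟨z, hz, hze⟩ := (hcoset _).mp ⟨(show orderOf (g⁻¹ * v * g) = 2 by
          have e : orderOf (g⁻¹ * v * g) = orderOf v := by
            simpa using MulEquiv.orderOf_eq (MulAut.conj g⁻¹) v
          rw [e, (Finset.mem_filter.mp hvI).2]), hvN⟩
        refine ⟨⟨z, hz⟩, Finset.mem_erase.mpr ⟨fun e => hvM ?_, Finset.mem_univ _⟩, ?_⟩
        · obtain rfl : z = z0 := congrArg Subtype.val e
          have hvt : v = t := mul_left_cancel (mul_right_cancel (hze.trans hz0e.symm))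
          subst hvt
          exact Finset.mem_filter.mpr ⟨hvI, rfl⟩
        · show g * (z * t) * g⁻¹ = v
          rw [← hze]; group
    have huniq : ∀ v ∈ U, (T.filter fun g => g⁻¹ * v * g ∈ N).card = Nat.card N := by
      intro v hv
      obtain ⟨hvI, hvM⟩ := Finset.mem_sdiff.mp hv
      have hvt : t * v ≠ v * t := fun e => hvM (Finset.mem_filter.mpr ⟨hvI, e.symm⟩)
      have hv2 := (Finset.mem_filter.mp hvI).2
      obtain ⟨g, hg, hgt⟩ := hloc ht2 hv2 hvt
      have hgv : g⁻¹ * v * g ∈ N := by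
        rw [show g⁻¹ * v * g = (g⁻¹ * t * g)⁻¹ * (g⁻¹ * (t * v) * g) by group]
        exact Subgroup.mul_mem _ (Subgroup.inv_mem _ hgt) (Subgroup.le_normalizer hg)
      rw [Nat.card_eq_fintype_card, ← Finset.card_univ]
      refine Finset.card_bij' (fun a ha => ⟨g⁻¹ * a, ?_⟩) (fun n _ => g * (n : G))
        (fun _ _ => Finset.mem_univ _) (fun n _ => ?_) (fun a _ => mul_inv_cancel_left g a)
        (fun n _ => Subtype.ext (inv_mul_cancel_left g (n : G)))
      · obtain ⟨haT, hav⟩ := Finset.mem_filter.mp ha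
        have hat := (Finset.mem_filter.mp haT).2
        have o : ∀ x : G, orderOf x = 2 → orderOf (a⁻¹ * x * a) = 2 := fun x hx => by
          have e : orderOf (a⁻¹ * x * a) = orderOf x := by
            simpa using MulEquiv.orderOf_eq (MulAut.conj a⁻¹) x
          rw [e, hx]
        obtain ⟨z1, hz1, e1⟩ := (hcoset _).mp ⟨o t ht2, hat⟩
        obtain ⟨z2, hz2, e2⟩ := (hcoset _).mp ⟨o v hv2, hav⟩
        have hprod : a⁻¹ * (t * v) * a ∈ (P : Subgroup G) := by
          rw [show a⁻¹ * (t * v) * a = a⁻¹ * t * a * (a⁻¹ * v * a) by group, e1, e2]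
          have := hinv_fix ht2 htN z2 hz2
          rw [show z1 * t * (z2 * t) = z1 * (t * z2 * t⁻¹) * (t * t) by group, this, invol_orderOf ht2,
            mul_one]
          exact Subgroup.mul_mem _ hz1 (Subgroup.inv_mem _ hz2)
        refine h.ti (z := a⁻¹ * (t * v) * a) hprod (fun e => hvt ?_) ?_
        · have e' := congrArg (fun w => a * w * a⁻¹) e
          simp [mul_assoc] at e'
          rw [mul_eq_one_iff_eq_inv] at e'
          rw [e', inv_mul_cancel, mul_inv_cancel]
        · rw [show g⁻¹ * a * (a⁻¹ * (t * v) * a) * (g⁻¹ * a)⁻¹ = g⁻¹ * (t * v) * g by group]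
          exact hg
      · have key : ∀ x : G, g⁻¹ * x * g ∈ N → (g * (n : G))⁻¹ * x * (g * (n : G)) ∈ N := fun x hx => by
          rw [show (g * (n : G))⁻¹ * x * (g * (n : G)) = (n : G)⁻¹ * (g⁻¹ * x * g) * n by group]
          exact Subgroup.mul_mem _ (Subgroup.mul_mem _ (Subgroup.inv_mem _ n.2) hx) n.2
        exact Finset.mem_filter.mpr ⟨Finset.mem_filter.mpr ⟨Finset.mem_univ _, key t hgt⟩, key v hgv⟩
    rw [← smul_eq_mul U.card, ← Finset.sum_const, ← smul_eq_mul T.card, ← Finset.sum_const,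
      ← Finset.sum_congr rfl huniq, ← Finset.sum_congr rfl hstd]
    simp only [Finset.card_filter]
    exact Finset.sum_comm
  -- divisibility
  set P' := (P : Subgroup G).subgroupOf N
  have hNcard : Nat.card N = Nat.card (P : Subgroup G) * P'.index := by
    rw [← P'.card_mul_index, Nat.card_congr (Subgroup.subgroupOfEquivOfLe Subgroup.le_normalizer).toEquiv]
  rw [hTcard, hNcard] at hpairs
  have hcancel : U.card * P'.index = Nat.card A * (Nat.card (P : Subgroup G) - 1) := by
    refine Nat.eq_of_mul_eq_mul_left hPcard ?_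
    linarith
  have hUM : U.card + M.card = Inv.card := Finset.card_sdiff_add_card_eq_card (Finset.filter_subset _ _)
  obtain ⟨z, hz, hz1, hzo⟩ := h.nontrivial_P
  have hpP : p ∣ Nat.card (P : Subgroup G) :=
    (dvd_of_eq hzo.symm).trans (Subgroup.orderOf_dvd_natCard _ hz)
  have hpI : p ∣ Inv.card := by
    have : p ∣ Inv.card * Nat.card A := hI ▸ hpP.trans (Subgroup.card_subgroup_dvd_card _)
    exact (hp.out.dvd_mul.mp this).resolve_right hAp
  have hpU : p ∣ U.card := (Nat.dvd_add_left hM).mp (hUM ▸ hpI)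
  have hpR : p ∣ Nat.card A * (Nat.card (P : Subgroup G) - 1) := hcancel ▸ hpU.mul_right _
  rcases hp.out.dvd_mul.mp hpR with h1 | h1
  · exact hAp h1
  · have h3 := Nat.dvd_sub hpP h1
    rw [show Nat.card (P : Subgroup G) - (Nat.card (P : Subgroup G) - 1) = 1 by omega] at h3
    exact hp.out.not_dvd_one h3

end Cfsg.Agent.Lib.CyclicSylowAbelian83
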