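import Cfsg.Agent.Lib.CyclicSylowAbelian83.Basic
import Cfsg.Agent.Lib.Induced.CNTheorem
import Cfsg.Agent.Lib.BSW.Main

/-!
# A cyclic Sylow subgroup with all subgroups of prime-to-`p` order abelian

Owner: helper83. Such a group has a normal `p`-complement or a normal Sylow `p`-subgroup.
-/

set_option autoImplicit false

namespace Cfsg.Agent.Lib.CyclicSylowAbelian83

universe u

/-- All subgroups of order prime to `p` are abelian. -/
def PrimeAbelian (p : ℕ) (G : Type u) [Group G] : Prop :=
  ∀ H : Subgroup G, ¬ p ∣ Nat.card H → IsMulCommutative H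

/-- A normal `p`-complement, in index form. -/
def HasComp (p : ℕ) (G : Type u) [Group G] : Prop :=
  ∃ N : Subgroup G, N.Normal ∧ ¬ p ∣ Nat.card N ∧ ∃ k : ℕ, N.index = p ^ k

/-- The conclusion. -/
def Conclusion (p : ℕ) (G : Type u) [Group G] : Prop :=
  HasComp p G ∨ ∀ P : Sylow p G, (P : Subgroup G).Normal

variable {G : Type u} [Group G] [Finite G] {p : ℕ} [hp : Fact p.Prime]

omit [Finite G] hp in
theorem primeAbelian_subgroup (h : PrimeAbelian p G) (H : Subgroup G) : PrimeAbelian p H := by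
  intro K hK
  have hc := h (K.map H.subtype) (by
    rwa [Subgroup.card_map_of_injective H.subtype_injective])
  refine ⟨⟨fun a b => Subtype.ext (Subtype.ext ?_)⟩⟩
  have e := congrArg Subtype.val (hc.is_comm.comm
    (⟨H.subtype (a : H), Subgroup.mem_map_of_mem _ a.2⟩ : K.map H.subtype)
    ⟨H.subtype (b : H), Subgroup.mem_map_of_mem _ b.2⟩)
  exact e

theorem primeAbelian_quotient (h : PrimeAbelian p G) (K : Subgroup G) [K.Normal]
    (hK : ¬ p ∣ Nat.card K) : PrimeAbelian p (G ⧸ K) := by
  intro H hH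
  have hc := h (H.comap (QuotientGroup.mk' K)) (by
    intro hdvd
    set H' := H.comap (QuotientGroup.mk' K)
    have hle : K ≤ H' := fun k hk => by
      show QuotientGroup.mk' K k ∈ H
      rw [show QuotientGroup.mk' K k = 1 from (QuotientGroup.eq_one_iff k).mpr hk]
      exact H.one_mem
    have e : Nat.card K * Nat.card H = Nat.card H' := by
      rw [← Subgroup.card_mul_index (K.subgroupOf H'),
        Nat.card_congr (Subgroup.subgroupOfEquivOfLe hle).toEquiv]
      congr 1
      rw [← Subgroup.map_comap_eq_self_of_surjective (QuotientGroup.mk'_surjective K) H]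
      show Nat.card (Subgroup.map (QuotientGroup.mk' K) H') = _
      rw [← Subgroup.relIndex]
      have : K.relIndex H' = (QuotientGroup.mk' K).ker.relIndex H' := by rw [QuotientGroup.ker_mk']
      rw [this, Subgroup.relIndex_ker]
    rw [← e] at hdvd
    rcases hp.out.dvd_mul.mp hdvd with h1 | h1
    · exact hK h1
    · exact hH h1)
  refine ⟨⟨fun a b => Subtype.ext ?_⟩⟩
  obtain ⟨a', ha⟩ := QuotientGroup.mk'_surjective K (a : G ⧸ K)
  obtain ⟨b', hb⟩ := QuotientGroup.mk'_surjective K (b : G ⧸ K)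
  have := congrArg Subtype.val (hc.is_comm.comm
    (⟨a', show QuotientGroup.mk' K a' ∈ H from ha ▸ a.2⟩ : H.comap (QuotientGroup.mk' K))
    ⟨b', show QuotientGroup.mk' K b' ∈ H from hb ▸ b.2⟩)
  show (a : G ⧸ K) * b = b * a
  rw [← ha, ← hb, ← map_mul, ← map_mul]
  exact congrArg _ this

theorem mem_of_index_pow {N : Subgroup G} [N.Normal] {k : ℕ} (hidx : N.index = p ^ k) {x : G}
    (hx : ¬ p ∣ orderOf x) : x ∈ N := by
  refine mem_of_pow_mem hx (n := k) ?_
  rw [← hidx]
  exact N.pow_index_mem x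

/-- A normal subgroup of prime-to-`p` order and `p`-power index is normalised and centralises a
`p`-subgroup modulo the intersection. -/
theorem commute_of_hasComp {N : Subgroup G} [N.Normal] (hN : ¬ p ∣ Nat.card N) {k : ℕ}
    (hidx : N.index = p ^ k) {P : Subgroup G} (hP : IsPGroup p P) {x : G}
    (hx : ¬ p ∣ orderOf x) (hxP : x ∈ Subgroup.normalizer (P : Set G)) :
    x ∈ Subgroup.centralizer (P : Set G) := by
  rw [Subgroup.mem_centralizer_iff]
  intro g hg
  have hxN := mem_of_index_pow hidx hx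
  set c := x * g * x⁻¹ * g⁻¹
  have hcP : c ∈ P := P.mul_mem ((Subgroup.mem_normalizer_iff.mp hxP g).mp hg) (P.inv_mem hg)
  have hcN : c ∈ N := by
    rw [show c = x * (g * x⁻¹ * g⁻¹) by simp [c, mul_assoc]]
    exact N.mul_mem hxN ((inferInstance : N.Normal).conj_mem _ (N.inv_mem hxN) g)
  obtain ⟨j, hj⟩ := hP ⟨c, hcP⟩
  have hc1 : c = 1 := by
    have hnd := not_dvd_orderOf_of_mem hN hcN
    have := mem_of_pow_mem hnd (H := (⊥ : Subgroup G)) (n := j)
      (Subgroup.mem_bot.mpr (congrArg Subtype.val hj))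
    exact Subgroup.mem_bot.mp this
  exact (mul_inv_eq_iff_eq_mul.mp (mul_inv_eq_one.mp hc1)).symm

/-- A minimal counterexample. -/
structure Min (p : ℕ) (P : Sylow p G) (d : G) : Prop where
  hab : PrimeAbelian p G
  cyc : IsCyclic (P : Subgroup G)
  ih : ∀ H : Subgroup G, H ≠ ⊤ → Conclusion p H
  noComp : ¬ HasComp p G
  noNormal : ¬ (P : Subgroup G).Normal
  dN : d ∈ Subgroup.normalizer ((P : Subgroup G) : Set G)
  dC : d ∉ Subgroup.centralizer ((P : Subgroup G) : Set G)
  dP : ¬ p ∣ orderOf d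
  noCore : ∀ K : Subgroup G, K.Normal → ¬ p ∣ Nat.card K → K = ⊥

variable {P : Sylow p G} {d : G}

/-- The key dichotomy for proper subgroups containing `P` and `d`. -/
theorem Min.le_normalizer (h : Min p P d) (H : Subgroup G) (hH : H ≠ ⊤)
    (hPH : (P : Subgroup G) ≤ H) (hdH : d ∈ H) :
    H ≤ Subgroup.normalizer ((P : Subgroup G) : Set G) := by
  rcases h.ih H hH with ⟨N, hNn, hN, k, hk⟩ | hn
  · exfalso
    haveI := hNn
    have hdN : (⟨d, hdH⟩ : H) ∈ Subgroup.normalizer (((P : Subgroup G).subgroupOf H : Subgroup H) : Set H) := by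
      rw [Subgroup.mem_normalizer_iff]
      intro y
      exact Subgroup.mem_normalizer_iff.mp h.dN (y : G)
    have := commute_of_hasComp hN hk
      (P.2.comap_of_injective H.subtype H.subtype_injective) (x := (⟨d, hdH⟩ : H))
      (by rw [Subgroup.orderOf_mk]; exact h.dP) hdN
    apply h.dC
    rw [Subgroup.mem_centralizer_iff] at this ⊢
    intro g hg
    exact congrArg Subtype.val (this ⟨g, hPH hg⟩ hg)
  · have hn' := hn (P.subtype hPH)
    intro x hx
    rw [Subgroup.mem_normalizer_iff]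
    intro y
    constructor
    · intro hy
      exact hn'.conj_mem ⟨y, hPH hy⟩ hy ⟨x, hx⟩
    · intro hy
      have : x⁻¹ * (x * y * x⁻¹) * x⁻¹⁻¹ ∈ (P : Subgroup G) :=
        hn'.conj_mem ⟨x * y * x⁻¹, hPH hy⟩ hy ⟨x⁻¹, H.inv_mem hx⟩
      simpa [mul_assoc] using this

/-- A normal subgroup containing `d` contains `P`. -/
theorem Min.le_of_mem (h : Min p P d) (L : Subgroup G) [L.Normal] (hd : d ∈ L) :
    (P : Subgroup G) ≤ L := by
  obtain ⟨g, -, hgen⟩ := exists_comm_generator P.2 h.cyc h.dP h.dN h.dC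
  intro x hx
  obtain ⟨i, rfl⟩ := hgen x hx
  refine L.pow_mem ?_ i
  rw [show d * g * d⁻¹ * g⁻¹ = d * (g * d⁻¹ * g⁻¹) by group]
  exact L.mul_mem hd ((inferInstance : L.Normal).conj_mem _ (L.inv_mem hd) g)

theorem Min.not_top (h : Min p P d) : Subgroup.normalizer ((P : Subgroup G) : Set G) ≠ ⊤ :=
  fun e => h.noNormal (Subgroup.normalizer_eq_top_iff.mp e)

theorem normal_of_normal_normalizer {L : Subgroup G} [L.Normal] (hPL : (P : Subgroup G) ≤ L)
    (hn : ((P.subtype hPL : Sylow p L) : Subgroup L).Normal) : (P : Subgroup G).Normal := by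
  haveI := hn
  haveI := Sylow.characteristic_of_normal (P.subtype hPL) hn
  have h : (((P.subtype hPL : Sylow p L) : Subgroup L).map L.subtype) = (P : Subgroup G) := by
    show ((P : Subgroup G).subgroupOf L).map L.subtype = _
    exact Subgroup.map_subgroupOf_eq_of_le hPL
  rw [← h]
  infer_instance

/-- A complement of a proper normal subgroup containing `P` is trivial, so `P` is the subgroup. -/
theorem Min.false_of_normal (h : Min p P d) (L : Subgroup G) [hLn : L.Normal] (hL : L ≠ ⊤)
    (hPL : (P : Subgroup G) ≤ L) : False := by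
  rcases h.ih L hL with ⟨N, hNn, hN, k, hk⟩ | hn
  · haveI := hNn
    haveI : N.Characteristic := by
      refine Subgroup.characteristic_iff_le_map.mpr fun φ x hx => ?_
      refine ⟨φ.symm x, mem_of_index_pow hk ?_, φ.apply_symm_apply x⟩
      rw [MulEquiv.orderOf_eq]
      exact not_dvd_orderOf_of_mem hN hx
    have hbot := h.noCore (N.map L.subtype) inferInstance (by
      rwa [Subgroup.card_map_of_injective L.subtype_injective])
    rw [Subgroup.map_eq_bot_iff_of_injective _ L.subtype_injective] at hbot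
    subst hbot
    rw [Subgroup.index_bot] at hk
    have hLp : IsPGroup p L := IsPGroup.of_card hk
    have : (P : Subgroup G) = L := (P.3 hLp hPL).symm
    exact h.noNormal (this ▸ hLn)
  · exact h.noNormal (normal_of_normal_normalizer hPL (hn _))

theorem Min.normalizer_le (h : Min p P d) (U : Subgroup G) (hUP : U ≤ (P : Subgroup G))
    (hU : U ≠ ⊥) : Subgroup.normalizer (U : Set G) ≤ Subgroup.normalizer ((P : Subgroup G) : Set G) := by
  haveI := h.cyc
  have hPC : ∀ x ∈ (P : Subgroup G), ∀ y ∈ U, y * x = x * y := fun x hx y hy => by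
    have := (IsCyclic.commutative (α := (P : Subgroup G))).is_comm.comm ⟨y, hUP hy⟩ ⟨x, hx⟩
    exact congrArg Subtype.val this
  by_cases htop : Subgroup.normalizer (U : Set G) = ⊤
  · exfalso
    haveI hUn : U.Normal := Subgroup.normalizer_eq_top_iff.mp htop
    have hPU : (P : Subgroup G) ≤ Subgroup.centralizer (U : Set G) := fun x hx =>
      Subgroup.mem_centralizer_iff.mpr (hPC x hx)
    by_cases hC : Subgroup.centralizer (U : Set G) = ⊤
    · obtain ⟨z, hz, hz1⟩ := U.bot_or_exists_ne_one.resolve_left hU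
      have hdc : d ∈ Subgroup.centralizer (U : Set G) := hC ▸ Subgroup.mem_top d
      exact h.dC (mem_centralizer_of_fix P.2 h.cyc h.dP h.dN (hUP hz) hz1
        (Subgroup.mem_centralizer_iff.mp hdc z hz).symm)
    · exact h.false_of_normal _ hC hPU
  · refine h.le_normalizer _ htop (fun x hx => ?_) ?_
    · rw [Subgroup.mem_normalizer_iff]
      intro y
      have hconj : ∀ y ∈ U, x * y * x⁻¹ = y := fun y hy => by rw [← hPC x hx y hy, mul_inv_cancel_right]
      constructor
      · intro hy; rwa [hconj y hy]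
      · intro hy
        have := hconj _ hy
        rw [mul_inv_eq_iff_eq_mul] at this
        have h2 : x * (x * y * x⁻¹) = x * y := by rw [this]; group
        exact (mul_left_cancel h2) ▸ hy
    · obtain ⟨z, hzU⟩ := exists_generator (P := U) (by
        exact isCyclic_of_injective (Subgroup.inclusion hUP) (Subgroup.inclusion_injective hUP))
      obtain ⟨hz, hzgen⟩ := hzU
      have hdz : d * z * d⁻¹ ∈ (P : Subgroup G) := (Subgroup.mem_normalizer_iff.mp h.dN z).mp (hUP hz)
      have e : Subgroup.zpowers (d * z * d⁻¹) = U := by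
        rw [← hzgen]
        exact zpowers_eq_of_mem h.cyc hdz (hUP hz)
          (by simpa using MulEquiv.orderOf_eq (MulAut.conj d) z)
      refine Subgroup.mem_normalizer_fintype fun y (hy : y ∈ U) => ?_
      rw [← hzgen] at hy
      obtain ⟨i, rfl⟩ := Subgroup.mem_zpowers_iff.mp hy
      show d * z ^ i * d⁻¹ ∈ U
      rw [← conj_zpow, ← e]
      exact Subgroup.zpow_mem _ (Subgroup.mem_zpowers _) _

/-- `P` is a trivial-intersection subgroup. -/
theorem Min.ti (h : Min p P d) {g z : G} (hz : z ∈ (P : Subgroup G)) (hz1 : z ≠ 1)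
    (hgz : g * z * g⁻¹ ∈ (P : Subgroup G)) :
    g ∈ Subgroup.normalizer ((P : Subgroup G) : Set G) := by
  refine h.normalizer_le (Subgroup.zpowers z) (Subgroup.zpowers_le.mpr hz)
    (Subgroup.zpowers_ne_bot.mpr hz1) ?_
  refine Subgroup.mem_normalizer_fintype fun y (hy : y ∈ Subgroup.zpowers z) => ?_
  obtain ⟨i, rfl⟩ := Subgroup.mem_zpowers_iff.mp hy
  show g * z ^ i * g⁻¹ ∈ Subgroup.zpowers z
  rw [← conj_zpow, zpowers_eq_of_mem h.cyc hz hgz (by simpa using (MulEquiv.orderOf_eq (MulAut.conj g) z).symm)]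
  exact Subgroup.zpow_mem _ (Subgroup.mem_zpowers _) _

theorem Min.mem_of_comm (h : Min p P d) {g z : G} (hz : z ∈ (P : Subgroup G)) (hz1 : z ≠ 1)
    (hgz : g * z = z * g) : g ∈ Subgroup.normalizer ((P : Subgroup G) : Set G) :=
  h.ti hz hz1 (by rwa [hgz, mul_inv_cancel_right])

theorem Min.exists_complement (h : Min p P d) :
    ∃ D : Subgroup G, D ≤ Subgroup.normalizer ((P : Subgroup G) : Set G) ∧ ¬ p ∣ Nat.card D ∧
      IsMulCommutative D ∧
      (∀ n ∈ Subgroup.normalizer ((P : Subgroup G) : Set G), ∃ g ∈ (P : Subgroup G), ∃ e ∈ D, n = g * e) ∧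
      (∀ g ∈ (P : Subgroup G), g ∈ D → g = 1) := by
  set N := Subgroup.normalizer ((P : Subgroup G) : Set G)
  set P' := (P : Subgroup G).subgroupOf N
  have hidx : ¬ p ∣ P'.index := (P.subtype Subgroup.le_normalizer).not_dvd_index
  obtain ⟨j, hj⟩ := IsPGroup.iff_card.mp (P.2.comap_of_injective N.subtype N.subtype_injective)
  haveI : P'.Normal := Subgroup.normal_in_normalizer
  obtain ⟨V, hV⟩ := Subgroup.exists_right_complement'_of_coprime (N := P') (by
    rw [show Nat.card P' = p ^ j from hj]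
    exact Nat.Coprime.pow_left _ (hp.out.coprime_iff_not_dvd.mpr hidx))
  refine ⟨V.map N.subtype, Subgroup.map_subtype_le V, ?_, ?_, fun n hn => ?_, fun g hg hgD => ?_⟩
  · rw [Subgroup.card_map_of_injective N.subtype_injective]
    have : Nat.card V = P'.index := hV.symm.index_eq_card.symm
    rwa [this]
  · refine h.hab _ ?_
    rw [Subgroup.card_map_of_injective N.subtype_injective]
    have : Nat.card V = P'.index := hV.symm.index_eq_card.symm
    rwa [this]
  · obtain ⟨⟨a, b⟩, e⟩ := hV.2 ⟨n, hn⟩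
    exact ⟨((a : N) : G), a.2, ((b : N) : G), ⟨b, b.2, rfl⟩, (congrArg Subtype.val e).symm⟩
  · obtain ⟨v, hv, rfl⟩ := hgD
    have := hV.disjoint.le_bot (show v ∈ P' ⊓ V from ⟨hg, hv⟩)
    rw [Subgroup.mem_bot.mp this]
    rfl

theorem prime_part (z : G) : ∃ k : ℕ, ¬ p ∣ orderOf (z ^ p ^ k) := by
  refine ⟨(orderOf z).factorization p, ?_⟩
  rw [orderOf_pow_of_dvd (pow_ne_zero _ hp.out.ne_zero) (Nat.ordProj_dvd _ _)]
  exact Nat.not_dvd_ordCompl hp.out (orderOf_pos z).ne'

/-- A `p'`-element of the centraliser of `P` lies in every complement. -/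
theorem Min.mem_complement (h : Min p P d) {D : Subgroup G}
    (hD : D ≤ Subgroup.normalizer ((P : Subgroup G) : Set G))
    (hfac : ∀ n ∈ Subgroup.normalizer ((P : Subgroup G) : Set G), ∃ g ∈ (P : Subgroup G), ∃ e ∈ D, n = g * e)
    {x : G} (hx : x ∈ Subgroup.centralizer ((P : Subgroup G) : Set G)) (hxp : ¬ p ∣ orderOf x) :
    x ∈ D := by
  haveI := h.cyc
  obtain ⟨g, hg, e, he, rfl⟩ := hfac x (Subgroup.centralizer_le_normalizer _ hx)
  have hge : g * e = e * g := by
    have := Subgroup.mem_centralizer_iff.mp hx g hg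
    have h2 : g * (g * e) = g * (e * g) := by rw [this, mul_assoc]
    exact mul_left_cancel h2
  obtain ⟨j, hj⟩ := P.2 ⟨g, hg⟩
  refine mem_of_pow_mem hxp (n := j) ?_
  rw [(show Commute g e from hge).mul_pow, show g ^ p ^ j = 1 from congrArg Subtype.val hj, one_mul]
  exact D.pow_mem he _

omit [Finite G] hp in
theorem comm_of_abelian {H : Subgroup G} (hH : IsMulCommutative H) {a b : G} (ha : a ∈ H)
    (hb : b ∈ H) : a * b = b * a :=
  congrArg Subtype.val (hH.is_comm.comm ⟨a, ha⟩ ⟨b, hb⟩)

theorem Min.centralizer_eq (h : Min p P d) {x : G}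
    (hx : x ∈ Subgroup.centralizer ((P : Subgroup G) : Set G)) (hx1 : x ≠ 1) (hxp : ¬ p ∣ orderOf x) :
    Subgroup.centralizer ({x} : Set G) = Subgroup.normalizer ((P : Subgroup G) : Set G) := by
  obtain ⟨D, hD, hDp, hDab, hfac, -⟩ := h.exists_complement
  have hxD := h.mem_complement hD hfac hx hxp
  have hge : Subgroup.normalizer ((P : Subgroup G) : Set G) ≤ Subgroup.centralizer ({x} : Set G) := by
    intro n hn
    obtain ⟨g, hg, e, he, rfl⟩ := hfac n hn
    refine Subgroup.mul_mem _ ?_ ?_ <;> rw [Subgroup.mem_centralizer_singleton_iff]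
    · exact (Subgroup.mem_centralizer_iff.mp hx g hg)
    · exact comm_of_abelian hDab he hxD
  refine le_antisymm (h.le_normalizer _ ?_ (Subgroup.le_normalizer.trans hge) (hge h.dN)) hge
  intro htop
  have hzc : ∀ g : G, g * x = x * g := fun g =>
    Subgroup.mem_centralizer_singleton_iff.mp (htop ▸ Subgroup.mem_top g)
  have hn : (Subgroup.zpowers x).Normal := by
    refine ⟨fun y hy g => ?_⟩
    obtain ⟨i, rfl⟩ := Subgroup.mem_zpowers_iff.mp hy
    rw [← conj_zpow, hzc g, mul_inv_cancel_right]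
    exact Subgroup.zpow_mem _ (Subgroup.mem_zpowers x) i
  have := h.noCore _ hn (not_dvd_card_zpowers hxp)
  exact hx1 (Subgroup.zpowers_eq_bot.mp this)

end Cfsg.Agent.Lib.CyclicSylowAbelian83
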